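import Cfsg.Agent.Lib.SuSpec.Split
import Cfsg.Agent.Lib.SpSpec.Elements
import Cfsg.Agent.Lib.Classical.HermCard

/-!
Tori and elements of prescribed order in the special unitary groups.
-/

set_option autoImplicit false

namespace Cfsg.Agent.Lib.SuSpec

open Cfsg.Agent.Lib.Classical
open scoped Matrix

variable {F : Type*} [Field F] [Fintype F] {n q : ℕ}

/-- The matrix of an element of `SU`. -/
def mat (x : Cfsg.SU n F q) : Matrix (Fin n) (Fin n) F := (x.1 : Matrix (Fin n) (Fin n) F)

theorem mat_pow (x : Cfsg.SU n F q) (k : ℕ) : mat (x ^ k) = mat x ^ k := by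
  simp [mat, SubgroupClass.coe_pow]

theorem mat_adj (hF : Fintype.card F = q ^ 2) (x : Cfsg.SU n F q) :
    adj (conjHom hF) (mat x) * mat x = 1 := by
  have h := congrArg Matrix.transpose ((mem_SU_iff hF x.1).1 x.2)
  rw [Matrix.transpose_mul, Matrix.transpose_transpose, Matrix.transpose_one] at h
  exact h

theorem mem_of_adj (hF : Fintype.card F = q ^ 2) {M : Matrix (Fin n) (Fin n) F} (hdet : M.det = 1)
    (h : adj (conjHom hF) M * M = 1) :
    (⟨M, hdet⟩ : Matrix.SpecialLinearGroup (Fin n) F) ∈ Cfsg.SU n F q := by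
  refine (mem_SU_iff hF _).2 ?_
  show Mᵀ * M.map (conjHom hF) = 1
  have h' := congrArg Matrix.transpose h
  rw [adj, Matrix.transpose_mul, Matrix.transpose_transpose, Matrix.transpose_one] at h'
  exact h'

theorem mk_pow_eq_one (hF : Fintype.card F = q ^ 2) (hn : 1 ≤ n) (x : Cfsg.SU n F q) (k : ℕ) :
    (QuotientGroup.mk x : Cfsg.PSU n F q) ^ k = 1 ↔
      ∃ c : F, mat x ^ k = algebraMap F _ c := by
  rw [← QuotientGroup.mk_pow, QuotientGroup.eq_one_iff, ← mat_pow]
  constructor
  · intro h
    exact ⟨_, (SU_center_scalar hF _ h ⟨0, hn⟩).trans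
      (by rw [Algebra.algebraMap_eq_smul_one])⟩
  · rintro ⟨c, hc⟩
    rw [Subgroup.mem_center_iff]
    intro y
    refine Subtype.ext (Subtype.ext ?_)
    show mat y * mat (x ^ k) = mat (x ^ k) * mat y
    rw [hc]; exact (Algebra.commutes c _).symm

/-- An isometry of determinant one is realised in the special unitary group. -/
theorem realize (hF : Fintype.card F = q ^ 2) {V : Type*} [AddCommGroup V] [Module F V]
    [Module.Finite F V] (B : V →ₛₗ[conjHom hF] V →ₗ[F] F) (hS : B.IsSymm) (hB : B.Nondegenerate)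
    (hn : Module.finrank F V = n) {g : Module.End F V} (hg : ∀ u v, B (g u) (g v) = B u v)
    (hdet : LinearMap.det g = 1) :
    ∃ x : Cfsg.SU n F q, ∀ (k : ℕ) (c : F),
      mat x ^ k = algebraMap F _ c ↔ g ^ k = algebraMap F _ c := by
  classical
  obtain ⟨b₀, hb₀⟩ := Geometry.exists_orthonormal_basis (conjHom_ne_id hF) (conjHom_conjHom hF) B hS hB
  let b : Module.Basis (Fin n) F V := b₀.reindex (finCongr hn)
  have hb : ∀ i j, B (b i) (b j) = if i = j then 1 else 0 := fun i j => by
    simp only [b, Module.Basis.reindex_apply, hb₀]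
    exact if_congr (finCongr hn).symm.injective.eq_iff rfl rfl
  let T := LinearMap.toMatrixAlgEquiv b
  set M := T g with hM
  have hcol : ∀ j, g (b j) = ∑ i, M i j • b i := fun j => by
    conv_lhs => rw [← b.sum_repr (g (b j))]
    simp [hM, T, LinearMap.toMatrixAlgEquiv_apply]
  have hadj : adj (conjHom hF) M * M = 1 := by
    ext i j
    have h := hg (b i) (b j)
    rw [hcol i, hcol j, hb] at h
    rw [Matrix.one_apply, ← h, Matrix.mul_apply]
    simp [adj, map_sum, hb]
    exact Finset.sum_congr rfl fun x _ => mul_comm _ _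
  have hMdet : M.det = 1 := by
    rw [← hdet, ← LinearMap.det_toMatrix b g]; rfl
  refine ⟨⟨⟨M, hMdet⟩, mem_of_adj hF hMdet hadj⟩, fun k c => ?_⟩
  show M ^ k = _ ↔ _
  rw [hM, ← map_pow, ← AlgEquiv.commutes T c]
  exact T.injective.eq_iff

/-- The trace commutes with a semilinear automorphism. -/
theorem trace_semi {L : Type*} [Field L] [Algebra F L] [Finite L] [Module.Finite F L]
    (τ : L →+* L) (σ : F →+* F) (hτ : ∀ c, τ (algebraMap F L c) = algebraMap F L (σ c))
    (hcomm : ∀ (g : L ≃ₐ[F] L) (x : L), τ (g x) = g (τ x)) (x : L) :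
    Algebra.trace F L (τ x) = σ (Algebra.trace F L x) := by
  haveI := Fintype.ofFinite L
  apply (algebraMap F L).injective
  rw [trace_eq_sum_automorphisms, ← hτ, trace_eq_sum_automorphisms, map_sum]
  exact Finset.sum_congr rfl fun g _ => (hcomm g x).symm

/-- The cyclic torus of `SU` carries the semisimple orders. -/
theorem exists_torus_psu (hF : Fintype.card F = q ^ 2) (hn : 2 ≤ n) :
    ∃ y : Cfsg.PSU n F q, ∀ (f : Polynomial F) (D m : ℕ), Irreducible f → f.natDegree = D →
      (∀ (k : ℕ) (c : F), AdjoinRoot.root f ^ k = algebraMap F _ c → c ^ (q + 1) = 1 → m ∣ k) →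
      ((Odd n ∧ D ∣ n ∧ AdjoinRoot.root f ^ (q ^ D + 1) = 1 ∧
          Algebra.norm F (AdjoinRoot.root f) ^ (n / D) = 1) ∨
       (Even n ∧ D ∣ n / 2 ∧ AdjoinRoot.root f ≠ 0 ∧
          (Algebra.norm F (AdjoinRoot.root f) ^ (n / 2 / D)) ^ q =
            Algebra.norm F (AdjoinRoot.root f) ^ (n / 2 / D))) →
      m ∣ orderOf y := by
  classical
  have hq2 := two_le_q hF
  obtain ⟨p, r, hp, hc, hqr⟩ := exists_q_pow hF
  haveI : Fact p.Prime := ⟨hp⟩
  have hσ : ∀ c, conjHom hF c = c ^ q := conjHom_apply hF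
  -- embedding of the field of a root
  have emb : ∀ {L : Type} [Field L] [Finite L] [Algebra F L] (f : Polynomial F), Irreducible f →
      f.natDegree ∣ Module.finrank F L →
      ∃ z : L, (∀ (k : ℕ) (c : F), z ^ k = algebraMap F L c →
          AdjoinRoot.root f ^ k = algebraMap F _ c) ∧
        (∀ k : ℕ, AdjoinRoot.root f ^ k = 1 → z ^ k = 1) ∧ (AdjoinRoot.root f ≠ 0 → z ≠ 0) ∧
        Algebra.norm F z =
          Algebra.norm F (AdjoinRoot.root f) ^ (Module.finrank F L / f.natDegree) := by
    intro L _ _ _ f hf hdvd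
    haveI : Fact (Irreducible f) := ⟨hf⟩
    haveI := SpSpec.finite_adjoinRoot hf.ne_zero
    haveI : Module.Finite F (AdjoinRoot f) :=
      Module.Finite.of_basis (AdjoinRoot.powerBasis hf.ne_zero).basis
    have hd : Module.finrank F (AdjoinRoot f) = f.natDegree := by
      rw [(AdjoinRoot.powerBasis hf.ne_zero).finrank, AdjoinRoot.powerBasis_dim]
    haveI : Module.Finite F L := Module.Finite.of_finite
    obtain ⟨ι⟩ := FiniteField.nonempty_algHom_of_finrank_dvd (K := AdjoinRoot f) (L := L) (F := F)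
      (by rw [hd]; exact hdvd)
    refine ⟨ι (AdjoinRoot.root f), fun k c h => ι.injective (show ι _ = ι _ by rw [map_pow, h, AlgHom.commutes]),
      fun k h => by rw [← map_pow, h, map_one], fun h0 h => h0 (ι.injective (h.trans (map_zero ι).symm)), ?_⟩
    letI : Algebra (AdjoinRoot f) L := ι.toRingHom.toAlgebra
    haveI : IsScalarTower F (AdjoinRoot f) L := IsScalarTower.of_algebraMap_eq fun c => (ι.commutes c).symm
    haveI : Module.Finite (AdjoinRoot f) L := Module.Finite.of_finite
    show Algebra.norm F (algebraMap (AdjoinRoot f) L (AdjoinRoot.root f)) = _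
    rw [← Algebra.norm_norm (R := F) (S := AdjoinRoot f), Algebra.norm_algebraMap, map_pow]
    congr 1
    rw [← Module.finrank_mul_finrank F (AdjoinRoot f) L, hd, Nat.mul_div_cancel_left _ hf.natDegree_pos]
  rcases Nat.even_or_odd n with hev | hodd
  · obtain ⟨K, _, _, _, hfin, hcard⟩ := SpSpec.exists_ext (F := F) (n / 2) (by omega)
    haveI : Module.Finite F K := Module.Finite.of_finite
    haveI : CharP K p := charP_of_injective_algebraMap (algebraMap F K).injective p
    haveI : ExpChar K p := ExpChar.prime hp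
    let τ : K →+* K := iterateFrobenius K p r
    have hτ : ∀ x, τ x = x ^ q := fun x => by rw [hqr]; exact iterateFrobenius_def p r x
    have hτc : ∀ c, τ (algebraMap F K c) = algebraMap F K (conjHom hF c) := fun c => by
      rw [hτ, hσ, map_pow]
    let tr := Algebra.trace F K
    let σ := conjHom hF
    let B : (K × K) →ₛₗ[σ] (K × K) →ₗ[F] F :=
      LinearMap.mk₂'ₛₗ σ (RingHom.id F)
        (fun u v => tr (τ u.1 * v.2) + σ (tr (τ v.1 * u.2)))
        (fun a b v => by simp only [Prod.fst_add, Prod.snd_add, map_add, add_mul, mul_add]; ring)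
        (fun c a v => by
          simp only [Prod.smul_fst, Prod.smul_snd]
          simp only [Algebra.smul_def, map_mul, hτc, mul_assoc,
            Algebra.algebraMap_self, RingHom.id_apply]
          rw [mul_left_comm (τ v.1), ← Algebra.smul_def, ← Algebra.smul_def, map_smul, map_smul,
            smul_eq_mul, smul_eq_mul, map_mul σ]
          simp only [σ]
          ring)
        (fun a u v => by simp only [Prod.fst_add, Prod.snd_add, map_add, add_mul, mul_add]; ring)
        (fun c a v => by
          simp only [Prod.smul_fst, Prod.smul_snd]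
          simp only [Algebra.smul_def, map_mul, hτc, mul_assoc,
            Algebra.algebraMap_self, RingHom.id_apply]
          rw [mul_left_comm (τ a.1), ← Algebra.smul_def, ← Algebra.smul_def, map_smul, map_smul,
            smul_eq_mul, smul_eq_mul, map_mul σ]
          simp only [σ, conjHom_conjHom]
          ring)
    have hB : ∀ u v, B u v = tr (τ u.1 * v.2) + σ (tr (τ v.1 * u.2)) := fun _ _ => rfl
    have hS : B.IsSymm := ⟨fun u v => by
      rw [hB, hB, map_add]; simp only [σ, conjHom_conjHom]; exact add_comm _ _⟩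
    have hnd := (traceForm_nondegenerate F K).1
    have hτs : Function.Surjective τ := Finite.surjective_of_injective τ.injective
    have hright : ∀ v, (∀ u, B u v = 0) → v = 0 := by
      intro v hv
      refine Prod.ext (?_ : v.1 = 0) (?_ : v.2 = 0)
      · refine τ.injective ((hnd _ fun y => ?_).trans (map_zero τ).symm)
        have h := hv (0, y)
        rw [hB] at h
        simpa [tr, Algebra.traceForm_apply, σ, map_eq_zero] using h
      · refine hnd _ fun y => ?_
        obtain ⟨y, rfl⟩ := hτs y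
        have h := hv (y, 0)
        rw [hB] at h
        simpa [tr, Algebra.traceForm_apply, σ, mul_comm] using h
    have hBn : B.Nondegenerate := ⟨fun u hu => hright u fun v => by
      rw [← hS.eq u v, hu, map_zero], hright⟩
    have hfinV : Module.finrank F (K × K) = n := by
      rw [Module.finrank_prod, hfin]; obtain ⟨c, hc⟩ := hev; omega
    let N : Kˣ →* Fˣ := Units.map (Algebra.norm F : K →* F)
    let τ' : Fˣ →* Fˣ := Units.map (σ : F →* F)
    let C : Subgroup Kˣ := MonoidHom.ker ((τ'.comp N) / N)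
    obtain ⟨z₀, hz₀⟩ := IsCyclic.exists_generator (α := C)
    have hCmem : ∀ z : Kˣ, z ∈ C ↔ σ (Algebra.norm F (z : K)) = Algebra.norm F (z : K) := fun z => by
      show (τ'.comp N) z / N z = 1 ↔ _
      rw [div_eq_one, Units.ext_iff]; rfl
    let g : Kˣ → Module.End F (K × K) := fun z =>
      LinearMap.prodMap (Algebra.lmul F K (z : K)) (Algebra.lmul F K (τ (z : K))⁻¹)
    have hg : ∀ z, ∀ u v, B (g z u) (g z v) = B u v := by
      intro z u v
      have hne : τ (z : K) ≠ 0 := fun h => z.ne_zero (τ.injective (h.trans (map_zero τ).symm))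
      rw [hB, hB]
      show tr (τ ((z : K) * u.1) * ((τ (z : K))⁻¹ * v.2)) +
        σ (tr (τ ((z : K) * v.1) * ((τ (z : K))⁻¹ * u.2))) = _
      rw [map_mul τ, map_mul τ, mul_mul_mul_comm, mul_inv_cancel₀ hne, one_mul, mul_mul_mul_comm,
        mul_inv_cancel₀ hne, one_mul]
    have hdet : LinearMap.det (g z₀.1) = 1 := by
      have hninv : ∀ y : K, y ≠ 0 → Algebra.norm F y⁻¹ = (Algebra.norm F y)⁻¹ := fun y hy =>
        eq_inv_of_mul_eq_one_left (by rw [← map_mul, inv_mul_cancel₀ hy, map_one])
      rw [LinearMap.det_prodMap, ← Algebra.norm_apply, ← Algebra.norm_apply,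
        hninv _ (fun h => (Units.ne_zero z₀.1) (τ.injective (h.trans (map_zero τ).symm))), hτ, map_pow,
        ← hσ, (hCmem _).1 z₀.2, mul_inv_cancel₀]
      exact Algebra.norm_ne_zero_iff.2 (Units.ne_zero _)
    obtain ⟨x, hx⟩ := realize hF B hS hBn hfinV (hg _) hdet
    refine ⟨QuotientGroup.mk x, fun f D m hf hD hm hcond => ?_⟩
    rcases hcond with ⟨ho, -⟩ | ⟨-, hD2, h0, hδ⟩
    · exact absurd hev (Nat.not_even_iff_odd.2 ho)
    subst hD
    obtain ⟨z, hz1, -, hz3, hzN⟩ := emb (L := K) f hf (by rw [hfin]; exact hD2)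
    rw [hfin] at hzN
    have hzC : Units.mk0 z (hz3 h0) ∈ C := by
      rw [hCmem, Units.val_mk0, hzN]
      show conjHom hF _ = _
      rw [hσ]; exact hδ
    obtain ⟨i, hi⟩ := mem_powers_iff_mem_zpowers.2 (hz₀ ⟨_, hzC⟩)
    obtain ⟨c, hc⟩ := (mk_pow_eq_one hF (by omega) x _).1
      (pow_orderOf_eq_one (QuotientGroup.mk x : Cfsg.PSU n F q))
    set k := orderOf (QuotientGroup.mk x : Cfsg.PSU n F q)
    have hgk : g z₀.1 ^ k = algebraMap F _ c := (hx k c).1 hc
    have hgp : ∀ (k : ℕ) (w : Kˣ), g w ^ k = g (w ^ k) := by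
      intro k w
      induction k with
      | zero =>
        refine LinearMap.ext fun u => ?_
        simp [g]
      | succ k ih =>
        rw [pow_succ, ih, pow_succ]
        refine LinearMap.ext fun u => ?_
        simp [g, mul_assoc, mul_comm, mul_left_comm]
    rw [hgp] at hgk
    have h1 := congrArg (fun e : Module.End F (K × K) => e (1, 1)) hgk
    simp only [g, LinearMap.prodMap_apply, Module.algebraMap_end_apply, Prod.smul_mk] at h1
    have e1 : ((z₀.1 ^ k : Kˣ) : K) = algebraMap F K c := by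
      have := congrArg Prod.fst h1
      simpa [Algebra.smul_def] using this
    have e2 : (τ ((z₀.1 ^ k : Kˣ) : K))⁻¹ = algebraMap F K c := by
      have := congrArg Prod.snd h1
      simpa [Algebra.smul_def] using this
    have hcc : c ^ (q + 1) = 1 := by
      rw [e1, hτc] at e2
      apply (algebraMap F K).injective
      rw [map_one, pow_succ, map_mul, ← hσ]
      rw [← e2]
      refine mul_inv_cancel₀ fun h => (z₀.1 ^ k).ne_zero ?_
      rw [e1, ← e2, h, inv_zero]
    refine hm k (c ^ i) (hz1 k (c ^ i) ?_) (by rw [← pow_mul, mul_comm, pow_mul, hcc, one_pow])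
    have hzv : z = ((z₀.1 ^ i : Kˣ) : K) :=
      (congrArg (fun w : C => ((w : Kˣ) : K)) hi).symm
    rw [hzv, ← Units.val_pow_eq_pow_val, ← pow_mul, mul_comm, pow_mul, Units.val_pow_eq_pow_val, e1,
      map_pow]
  · obtain ⟨L, _, _, _, hfin, hcard⟩ := SpSpec.exists_ext (F := F) n (by omega)
    haveI : Module.Finite F L := Module.Finite.of_finite
    haveI : CharP L p := charP_of_injective_algebraMap (algebraMap F L).injective p
    haveI : ExpChar L p := ExpChar.prime hp
    let τ : L →+* L := iterateFrobenius L p (r * n)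
    have hτ : ∀ x, τ x = x ^ q ^ n := fun x => by
      rw [hqr, ← pow_mul]; exact iterateFrobenius_def p (r * n) x
    have hτc : ∀ c, τ (algebraMap F L c) = algebraMap F L (conjHom hF c) := fun c => by
      rw [hτ, hσ, ← map_pow]
      congr 1
      obtain ⟨i, hi⟩ := hodd
      rw [hi, pow_succ, pow_mul q 2, ← hF, pow_mul, FiniteField.pow_card_pow]
    have hττ : ∀ x, τ (τ x) = x := fun x => by
      rw [hτ, hτ, ← pow_mul, show q ^ n * q ^ n = Fintype.card L by
        rw [hcard, hF, ← pow_add, ← pow_mul, two_mul], FiniteField.pow_card]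
    let tr := Algebra.trace F L
    let σ := conjHom hF
    let B : L →ₛₗ[σ] L →ₗ[F] F :=
      LinearMap.mk₂'ₛₗ σ (RingHom.id F) (fun u v => tr (τ u * v))
        (fun a b v => by simp only [map_add, add_mul])
        (fun c a v => by
          simp only [Algebra.smul_def, map_mul, hτc, mul_assoc, Algebra.algebraMap_self, RingHom.id_apply]
          rw [← Algebra.smul_def, map_smul, smul_eq_mul])
        (fun a u v => by simp only [mul_add, map_add])
        (fun c a v => by
          simp only [Algebra.smul_def, Algebra.algebraMap_self, RingHom.id_apply]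
          rw [mul_left_comm, ← Algebra.smul_def, map_smul, smul_eq_mul])
    have hB : ∀ u v, B u v = tr (τ u * v) := fun _ _ => rfl
    have hS : B.IsSymm := ⟨fun u v => by
      rw [hB, hB]
      show σ (Algebra.trace F L (τ u * v)) = _
      rw [← trace_semi τ σ hτc (fun g x => by rw [hτ, hτ, map_pow]) (τ u * v), map_mul, hττ, mul_comm]⟩
    have hnd := (traceForm_nondegenerate F L).1
    have hright : ∀ v, (∀ u, B u v = 0) → v = 0 := fun v hv => hnd v fun y => by
      have h := hv (τ y)
      rw [hB, hττ, mul_comm] at h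
      exact h
    have hBn : B.Nondegenerate := ⟨fun u hu => hright u fun v => by
      rw [← hS.eq u v, hu, map_zero], hright⟩
    let C : Subgroup Lˣ :=
      (powMonoidHom (q ^ n + 1) : Lˣ →* Lˣ).ker ⊓ (Units.map (Algebra.norm F : L →* F)).ker
    obtain ⟨z₀, hz₀⟩ := IsCyclic.exists_generator (α := C)
    have hCmem : ∀ z : Lˣ, z ∈ C ↔ (z : L) ^ (q ^ n + 1) = 1 ∧ Algebra.norm F (z : L) = 1 := fun z => by
      show z ^ (q ^ n + 1) = 1 ∧ (Units.map (Algebra.norm F : L →* F)) z = 1 ↔ _
      rw [Units.ext_iff, Units.ext_iff, Units.val_pow_eq_pow_val]; rfl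
    have hg : ∀ u v, B (Algebra.lmul F L ((z₀.1 : Lˣ) : L) u) (Algebra.lmul F L ((z₀.1 : Lˣ) : L) v) =
        B u v := fun u v => by
      rw [hB, hB]
      show tr (τ (((z₀.1 : Lˣ) : L) * u) * (((z₀.1 : Lˣ) : L) * v)) = _
      rw [map_mul τ, mul_mul_mul_comm, hτ ((z₀.1 : Lˣ) : L), ← pow_succ, ((hCmem _).1 z₀.2).1, one_mul]
    have hdet : LinearMap.det (Algebra.lmul F L ((z₀.1 : Lˣ) : L)) = 1 := by
      rw [← Algebra.norm_apply]; exact ((hCmem _).1 z₀.2).2
    obtain ⟨x, hx⟩ := realize hF B hS hBn hfin hg hdet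
    refine ⟨QuotientGroup.mk x, fun f D m hf hD hm hcond => ?_⟩
    rcases hcond with ⟨-, hDn, hroot, hN⟩ | ⟨he, -⟩
    swap
    · exact absurd he (Nat.not_even_iff_odd.2 hodd)
    subst hD
    obtain ⟨z, hz1, hz2, hz3, hzN⟩ := emb (L := L) f hf (by rw [hfin]; exact hDn)
    rw [hfin, hN] at hzN
    haveI : Fact (Irreducible f) := ⟨hf⟩
    have h0 : AdjoinRoot.root f ≠ 0 := fun h => by
      rw [h, zero_pow (by omega)] at hroot; exact zero_ne_one hroot
    have hzq : z ^ (q ^ n + 1) = 1 := by
      refine hz2 _ ?_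
      obtain ⟨e, he⟩ := hDn
      have : q ^ f.natDegree + 1 ∣ q ^ n + 1 := by
        rw [he, pow_mul]
        simpa using Odd.nat_add_dvd_pow_add_pow (q ^ f.natDegree) 1
          (Nat.Odd.of_mul_right (m := f.natDegree) (he ▸ hodd) : Odd e)
      exact orderOf_dvd_iff_pow_eq_one.1 ((orderOf_dvd_of_pow_eq_one hroot).trans this)
    have hzC : Units.mk0 z (hz3 h0) ∈ C := (hCmem _).2 ⟨hzq, hzN⟩
    obtain ⟨i, hi⟩ := mem_powers_iff_mem_zpowers.2 (hz₀ ⟨_, hzC⟩)
    obtain ⟨c, hc⟩ := (mk_pow_eq_one hF (by omega) x _).1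
      (pow_orderOf_eq_one (QuotientGroup.mk x : Cfsg.PSU n F q))
    set k := orderOf (QuotientGroup.mk x : Cfsg.PSU n F q)
    have hgk := (hx k c).1 hc
    rw [← map_pow] at hgk
    have e1 : ((z₀.1 : Lˣ) : L) ^ k = algebraMap F L c := by
      have := congrArg (fun e : Module.End F L => e 1) hgk
      simpa [Module.algebraMap_end_apply, Algebra.smul_def] using this
    have hcc : c ^ (q + 1) = 1 := by
      apply (algebraMap F L).injective
      rw [map_one, pow_succ, ← hσ, map_mul, ← hτc, ← e1, hτ, ← pow_succ, ← pow_mul, mul_comm, pow_mul,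
        ((hCmem _).1 z₀.2).1, one_pow]
    refine hm k (c ^ i) (hz1 k (c ^ i) ?_) (by rw [← pow_mul, mul_comm, pow_mul, hcc, one_pow])
    have hzv : z = ((z₀.1 ^ i : Lˣ) : L) :=
      (congrArg (fun w : C => ((w : Lˣ) : L)) hi).symm
    rw [hzv, Units.val_pow_eq_pow_val, ← pow_mul, mul_comm, pow_mul, e1, map_pow]

end Cfsg.Agent.Lib.SuSpec
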