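import Cfsg.Agent.Lib.SuSpec.Det
import Cfsg.Agent.Lib.Classical.HermForm

/-!
Isometries of a Hermitian space with no commuting self-adjoint idempotent.
-/

set_option autoImplicit false

namespace Cfsg.Agent.Lib.SuSpec

open Polynomial
open scoped Matrix

variable {F : Type*} [Field F] {n : ℕ}

/-- The adjoint for the standard Hermitian form. -/
def adj (σ : F →+* F) (A : Matrix (Fin n) (Fin n) F) : Matrix (Fin n) (Fin n) F := (A.map σ)ᵀ

variable {σ : F →+* F}

theorem adj_mul (A B : Matrix (Fin n) (Fin n) F) : adj σ (A * B) = adj σ B * adj σ A := by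
  rw [adj, Matrix.map_mul, Matrix.transpose_mul]; rfl

theorem adj_add (A B : Matrix (Fin n) (Fin n) F) : adj σ (A + B) = adj σ A + adj σ B := by
  rw [adj, Matrix.map_add _ (map_add σ), Matrix.transpose_add]; rfl

theorem adj_one : adj σ (1 : Matrix (Fin n) (Fin n) F) = 1 := by
  rw [adj, Matrix.map_one _ σ.map_zero σ.map_one, Matrix.transpose_one]

theorem adj_algebraMap (c : F) :
    adj σ (algebraMap F (Matrix (Fin n) (Fin n) F) c) = algebraMap F _ (σ c) := by
  rw [adj, Matrix.algebraMap_eq_diagonal, Matrix.diagonal_map σ.map_zero,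
    Matrix.diagonal_transpose, Matrix.algebraMap_eq_diagonal]
  rfl

theorem adj_pow (A : Matrix (Fin n) (Fin n) F) : ∀ k : ℕ, adj σ (A ^ k) = adj σ A ^ k
  | 0 => by rw [pow_zero, pow_zero, adj_one]
  | k + 1 => by rw [pow_succ, adj_mul, adj_pow A k, pow_succ']

theorem adj_aeval (A : Matrix (Fin n) (Fin n) F) (P : F[X]) :
    adj σ (aeval A P) = aeval (adj σ A) (P.map σ) := by
  induction P using Polynomial.induction_on' with
  | add x y hx hy => rw [map_add, adj_add, hx, hy, Polynomial.map_add, map_add]
  | monomial k c =>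
    rw [aeval_monomial, adj_mul, adj_algebraMap, adj_pow, Polynomial.map_monomial, aeval_monomial]
    exact (Algebra.commutes _ _).symm

theorem adj_adj (hσ : ∀ x, σ (σ x) = x) (A : Matrix (Fin n) (Fin n) F) : adj σ (adj σ A) = A := by
  ext i j; simp [adj, hσ]

theorem det_adj (A : Matrix (Fin n) (Fin n) F) : (adj σ A).det = σ A.det := by
  rw [adj, Matrix.det_transpose, RingHom.map_det]; rfl

theorem finrank_range_map [Fintype F] (A : Matrix (Fin n) (Fin n) F) (hσ : ∀ x, σ (σ x) = x) :
    (A.map σ).rank = A.rank := by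
  unfold Matrix.rank
  have e : LinearMap.range A.mulVecLin ≃ LinearMap.range (A.map σ).mulVecLin :=
    { toFun := fun w => ⟨fun i => σ ((w : Fin n → F) i), by
        obtain ⟨_, x, rfl⟩ := w
        refine ⟨fun i => σ (x i), funext fun i => ?_⟩
        simp [Matrix.mulVec, dotProduct, map_sum]⟩
      invFun := fun w => ⟨fun i => σ ((w : Fin n → F) i), by
        obtain ⟨_, x, rfl⟩ := w
        refine ⟨fun i => σ (x i), funext fun i => ?_⟩
        simp [Matrix.mulVec, dotProduct, map_sum, hσ]⟩
      left_inv := fun w => Subtype.ext (funext fun i => hσ _)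
      right_inv := fun w => Subtype.ext (funext fun i => hσ _) }
  have h := Nat.card_congr e
  rw [Module.natCard_eq_pow_finrank (K := F) (V := LinearMap.range A.mulVecLin),
    Module.natCard_eq_pow_finrank (K := F) (V := LinearMap.range (A.map σ).mulVecLin)] at h
  refine (Nat.pow_right_injective ?_ h).symm
  exact Finite.one_lt_card

theorem rank_adj [Fintype F] (A : Matrix (Fin n) (Fin n) F) (hσ : ∀ x, σ (σ x) = x) :
    (adj σ A).rank = A.rank := by
  rw [adj, Matrix.rank_transpose, finrank_range_map A hσ]

theorem orderOf_pos_of_pow [Fintype F] {g : Matrix (Fin n) (Fin n) F}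
    (hg : adj σ g * g = 1) : IsOfFinOrder g := by
  let u : (Matrix (Fin n) (Fin n) F)ˣ := ⟨g, adj σ g, mul_eq_one_comm.1 hg, hg⟩
  exact (Units.coeHom _).isOfFinOrder (isOfFinOrder_of_finite u)

theorem unip_bound [Fintype F] {p : ℕ} [Fact p.Prime] [CharP F p] {g : Matrix (Fin n) (Fin n) F}
    (hn : 0 < n) {e j : ℕ} (he : 0 < e) (hj : j ≠ 0) (ha : orderOf g = p ^ j * e) :
    p ^ (j - 1) < n := by
  have hp : p.Prime := Fact.out
  haveI : Nonempty (Fin n) := ⟨⟨0, hn⟩⟩
  haveI : CharP (Matrix (Fin n) (Fin n) F) p :=
    charP_of_injective_algebraMap (algebraMap F (Matrix (Fin n) (Fin n) F)).injective p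
  set v := g ^ e - 1 with hv
  have hnil : IsNilpotent v := ⟨p ^ j, by
    rw [hv, sub_pow_char_pow_of_commute _ _ (Commute.one_right _), ← pow_mul, mul_comm e, ← ha,
      pow_orderOf_eq_one, one_pow, sub_self]⟩
  by_contra hle
  have h0 : v ^ n = 0 := by
    let φ := (Matrix.toLinAlgEquiv' (R := F) (n := Fin n))
    apply φ.injective
    rw [map_pow, map_zero]
    obtain ⟨k, hk⟩ := hnil
    have := (φ v).aeval_self_charpoly
    rwa [(LinearMap.charpoly_eq_X_pow_iff (φ v)).2 fun w => ⟨k, by rw [← map_pow, hk, map_zero]; rfl⟩,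
      aeval_X_pow, Module.finrank_fintype_fun_eq_card, Fintype.card_fin] at this
  have h1 := pow_eq_zero_of_le (Nat.le_of_not_lt hle) h0
  rw [hv, sub_pow_char_pow_of_commute _ _ (Commute.one_right _), one_pow, sub_eq_zero, ← pow_mul] at h1
  have h4 := orderOf_dvd_of_pow_eq_one h1
  rw [ha, mul_comm e] at h4
  have h5 := Nat.dvd_of_mul_dvd_mul_right he h4
  rw [Nat.pow_dvd_pow_iff_le_right hp.one_lt] at h5
  omega

variable [Fintype F]

theorem norm_frob {q : ℕ} (hF : Fintype.card F = q ^ 2) {L : Type*} [CommRing L] [Algebra F L]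
    {D : ℕ} (hD : Odd D) {x : L} (hx : x ^ (q ^ D + 1) = 1) :
    Algebra.norm F x ^ (q + 1) = 1 := by
  have h := congrArg (Algebra.norm F) hx
  rw [map_pow, map_one, pow_succ] at h
  obtain ⟨i, rfl⟩ := hD
  rw [pow_succ, pow_mul q 2 i, ← hF, pow_mul] at h
  rw [FiniteField.pow_card_pow] at h
  rw [pow_succ]
  exact h

/-- The semisimple part of an isometry without commuting idempotent. -/
theorem classify {p : ℕ} [Fact p.Prime] [CharP F p] {q : ℕ} (hF : Fintype.card F = q ^ 2)
    (hσ : ∀ x : F, σ x = x ^ q) (hn : 0 < n) {s : Matrix (Fin n) (Fin n) F}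
    (hs : adj σ s * s = 1) (hdet : s.det = 1) (hcop : ¬ p ∣ orderOf s)
    (g : Matrix (Fin n) (Fin n) F) (hgs : Commute g s) (hg : adj σ g * g = 1) :
    (∃ E, adj σ E = E ∧ E * E = E ∧ E ≠ 0 ∧ E ≠ 1 ∧ Commute g E) ∨
    ∃ (f : F[X]) (D : ℕ), Irreducible f ∧ f.natDegree = D ∧
      (∀ (k : ℕ) (c : F), AdjoinRoot.root f ^ k = algebraMap F _ c → c ^ (q + 1) = 1 →
        ∃ d : F, s ^ k = algebraMap F _ d) ∧
      ((Odd n ∧ D ∣ n ∧ AdjoinRoot.root f ^ (q ^ D + 1) = 1 ∧
          Algebra.norm F (AdjoinRoot.root f) ^ (n / D) = 1) ∨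
       (Even n ∧ D ∣ n / 2 ∧ AdjoinRoot.root f ≠ 0 ∧
          (Algebra.norm F (AdjoinRoot.root f) ^ (n / 2 / D)) ^ q =
            Algebra.norm F (AdjoinRoot.root f) ^ (n / 2 / D))) := by
  classical
  have hp : p.Prime := Fact.out
  have hq2 := Classical.two_le_q hF
  have hσ2 : ∀ x, σ (σ x) = x := fun x => by
    rw [hσ, hσ, ← pow_mul, ← pow_two, ← hF, FiniteField.pow_card]
  haveI : Nonempty (Fin n) := ⟨⟨0, hn⟩⟩
  set e := orderOf s with he
  have hepos : 0 < e := (orderOf_pos_of_pow hs).orderOf_pos
  have hse : s ^ e = 1 := pow_orderOf_eq_one s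
  set s' := adj σ s with hs'_def
  have hs'e : s' = s ^ (e - 1) := by
    calc s' = s' * s ^ (e - 1 + 1) := by rw [Nat.sub_add_cancel hepos, hse, mul_one]
      _ = _ := by rw [pow_succ', ← mul_assoc, hs, one_mul]
  set h := minpoly F s with hh_def
  have hint : IsIntegral F s := Algebra.IsIntegral.isIntegral s
  have hh0 : aeval s h = 0 := minpoly.aeval F s
  have hh0' : aeval s' (h.map σ) = 0 := by
    rw [hs'_def, ← adj_aeval, hh0]
    ext i j; simp [adj]
  have hsep : Squarefree h := by
    refine Squarefree.squarefree_of_dvd (minpoly.dvd F s (p := X ^ e - 1) (by simp [hse])) ?_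
    refine (X_pow_sub_one_separable_iff.2 ?_).squarefree
    rw [Ne, CharP.cast_eq_zero_iff F p]; exact hcop
  let Φ := (Matrix.toLinAlgEquiv' (R := F) (n := Fin n))
  have hΦdet : ∀ A : Matrix (Fin n) (Fin n) F, LinearMap.det (Φ A) = A.det :=
    fun A => LinearMap.det_toLin' A
  have hfin : Module.finrank F (Fin n → F) = n := by
    rw [Module.finrank_fintype_fun_eq_card, Fintype.card_fin]
  by_cases hirr : Irreducible h
  · haveI : Fact (Irreducible h) := ⟨hirr⟩
    haveI := SpSpec.finite_adjoinRoot hirr.ne_zero
    haveI : Module.Finite F (AdjoinRoot h) :=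
      Module.Finite.of_basis (AdjoinRoot.powerBasis hirr.ne_zero).basis
    have hΦ0 : aeval (Φ s) h = 0 := by rw [aeval_algHom_apply, hh0, map_zero]
    obtain ⟨hdiv, -, -⟩ := SpSpec.field_facts (Φ s) hirr hΦ0
    have hdets := det_of_irreducible (Φ s) hirr hΦ0
    rw [hΦdet, hdet, hfin] at hdets
    rw [hfin] at hdiv
    let φ : AdjoinRoot h →ₐ[F] Matrix (Fin n) (Fin n) F :=
      Ideal.Quotient.liftₐ (Ideal.span {h}) (aeval s) (fun a ha => by
        obtain ⟨b, rfl⟩ := Ideal.mem_span_singleton'.1 ha
        rw [map_mul, hh0, mul_zero])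
    have hφ : φ (AdjoinRoot.root h) = s := aeval_X s
    have hφi : Function.Injective φ := φ.toRingHom.injective
    have hpw : AdjoinRoot.root h ^ e = 1 := hφi (by rw [map_pow, hφ, hse, map_one])
    set ζ := AdjoinRoot.root h
    have hζ0 : ζ ≠ 0 := fun e0 => by rw [e0, zero_pow hepos.ne'] at hpw; exact zero_ne_one hpw
    -- the conjugate inverse is again a root
    have hinv : aeval (ζ⁻¹ ^ q) h = 0 := by
      have h1 : aeval ζ⁻¹ (h.map σ) = 0 := by
        refine hφi ?_
        have : ζ⁻¹ = ζ ^ (e - 1) :=
          (eq_inv_of_mul_eq_one_left (by rw [← pow_succ, Nat.sub_add_cancel hepos, hpw])).symm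
        rw [this, ← aeval_algHom_apply, map_pow, hφ, ← hs'e, hh0', map_zero]
      obtain ⟨p', r, hp', hc', hqr⟩ := Classical.exists_q_pow hF
      haveI : Fact p'.Prime := ⟨hp'⟩
      haveI : CharP (AdjoinRoot h) p' :=
        charP_of_injective_algebraMap (algebraMap F (AdjoinRoot h)).injective p'
      haveI : ExpChar (AdjoinRoot h) p' := ExpChar.prime hp'
      have h2 := congrArg (iterateFrobenius (AdjoinRoot h) p' r) h1
      rw [map_zero, aeval_def, hom_eval₂, eval₂_map] at h2
      have hcomp : ((iterateFrobenius (AdjoinRoot h) p' r).comp (algebraMap F (AdjoinRoot h))).comp σ =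
          algebraMap F (AdjoinRoot h) := by
        refine RingHom.ext fun c => ?_
        simp only [RingHom.comp_apply, iterateFrobenius_def, ← hqr, ← map_pow, ← hσ, hσ2]
      rw [hcomp, iterateFrobenius_def, ← hqr] at h2
      rw [aeval_def]
      exact h2
    let ψ : AdjoinRoot h →ₐ[F] AdjoinRoot h :=
      AdjoinRoot.liftAlgHom h (Algebra.ofId F _) (ζ⁻¹ ^ q) hinv
    obtain ⟨i, hi⟩ := (FiniteField.bijective_frobeniusAlgHom_pow F (AdjoinRoot h)).2 ψ
    have happ : ∀ (k : ℕ) (x : AdjoinRoot h),
        ((FiniteField.frobeniusAlgHom F (AdjoinRoot h)) ^ k) x = x ^ Fintype.card F ^ k := by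
      intro k
      induction k with
      | zero => intro x; simp
      | succ k ih =>
        intro x
        rw [pow_succ', AlgHom.mul_apply, ih, pow_succ]
        show (x ^ Fintype.card F ^ k) ^ Fintype.card F = _
        rw [← pow_mul]
    have hζi : ζ ^ q ^ (2 * (i : ℕ)) = ζ⁻¹ ^ q := by
      rw [pow_mul q 2, ← hF, ← happ]
      refine (congrArg (fun g : AdjoinRoot h →ₐ[F] AdjoinRoot h => g ζ) hi).trans ?_
      exact AdjoinRoot.liftAlgHom_root _ _ _ _
    have hd : Module.finrank F (AdjoinRoot h) = h.natDegree := by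
      rw [(AdjoinRoot.powerBasis hirr.ne_zero).finrank, AdjoinRoot.powerBasis_dim]
    have hilt : (i : ℕ) < h.natDegree := hd ▸ i.isLt
    have hqi : (ζ ^ q) ^ q ^ (2 * (i : ℕ)) = ζ⁻¹ ^ (q * q) := by
      rw [← pow_mul, mul_comm, pow_mul, hζi, ← pow_mul]
    have hodd : Odd h.natDegree ∧ ζ ^ (q ^ h.natDegree + 1) = 1 := by
      rcases Nat.eq_zero_or_pos (i : ℕ) with hi0 | hi0
      · rw [hi0, mul_zero, pow_zero, pow_one] at hζi
        have h1 : ζ ^ (q + 1) = 1 := by
          rw [pow_succ']; nth_rewrite 1 [hζi]; rw [← mul_pow, inv_mul_cancel₀ hζ0, one_pow]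
        have hfr : ((FiniteField.frobeniusAlgHom F (AdjoinRoot h)) ^ 1) = 1 := by
          apply AdjoinRoot.algHom_ext
          rw [happ, pow_one]
          show ζ ^ Fintype.card F = ζ
          rw [hF, show q ^ 2 = (q + 1) * (q - 1) + 1 by
            rw [← Nat.sq_sub_sq, one_pow, Nat.sub_add_cancel (Nat.one_le_pow _ _ (by omega))],
            pow_succ, pow_mul, h1, one_pow, one_mul]
        have h2 := orderOf_dvd_of_pow_eq_one hfr
        simp only [FiniteField.orderOf_frobeniusAlgHom] at h2
        have hD1 : h.natDegree = 1 := Nat.eq_one_of_dvd_one (hd.symm.dvd.trans h2)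
        rw [hD1, pow_one]
        exact ⟨odd_one, h1⟩
      · have hfr : ((FiniteField.frobeniusAlgHom F (AdjoinRoot h)) ^ (2 * (i : ℕ) - 1)) = 1 := by
          apply AdjoinRoot.algHom_ext
          rw [happ, hF, ← pow_mul]
          show ζ ^ q ^ (2 * (2 * (i : ℕ) - 1)) = ζ
          -- apply the relation twice
          have h3 : ζ ^ q ^ (2 * (i : ℕ) + 2 * (i : ℕ)) = ζ ^ (q * q) := by
            rw [pow_add, pow_mul, hζi, ← pow_mul, mul_comm q, pow_mul, inv_pow, hζi, inv_pow ζ q,
              inv_inv, ← pow_mul]
          have h4 : (ζ ^ q ^ (2 * (2 * (i : ℕ) - 1))) ^ (q * q) = ζ ^ (q * q) := by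
            rw [← pow_mul, ← pow_two, ← pow_add, show 2 * (2 * (i : ℕ) - 1) + 2 = 2 * i + 2 * i by omega,
              h3, pow_two]
          obtain ⟨p', r, hp', hc', hqr⟩ := Classical.exists_q_pow hF
          haveI : CharP (AdjoinRoot h) p' :=
            charP_of_injective_algebraMap (algebraMap F (AdjoinRoot h)).injective p'
          haveI : ExpChar (AdjoinRoot h) p' := ExpChar.prime hp'
          refine iterateFrobenius_inj (AdjoinRoot h) p' (r + r) ?_
          rw [iterateFrobenius_def, iterateFrobenius_def, pow_add, ← hqr]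
          exact h4
        have h2 := orderOf_dvd_of_pow_eq_one hfr
        simp only [FiniteField.orderOf_frobeniusAlgHom] at h2
        obtain ⟨c, hc⟩ := hd.symm.dvd.trans h2
        have hc1 : c = 1 := by
          rcases c with _ | _ | c
          · omega
          · rfl
          · have : h.natDegree * 2 ≤ h.natDegree * (c + 1 + 1) := Nat.mul_le_mul_left _ (by omega)
            omega
        rw [hc1, mul_one] at hc
        refine ⟨⟨(i : ℕ) - 1, by omega⟩, ?_⟩
        obtain ⟨p', r, hp', hc', hqr⟩ := Classical.exists_q_pow hF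
        haveI : CharP (AdjoinRoot h) p' :=
          charP_of_injective_algebraMap (algebraMap F (AdjoinRoot h)).injective p'
        haveI : ExpChar (AdjoinRoot h) p' := ExpChar.prime hp'
        refine iterateFrobenius_inj (AdjoinRoot h) p' r ?_
        rw [iterateFrobenius_def, iterateFrobenius_def, ← hqr, ← pow_mul, add_one_mul,
          ← pow_succ, show h.natDegree + 1 = 2 * (i : ℕ) by omega, pow_add, hζi, one_pow,
          ← mul_pow, inv_mul_cancel₀ hζ0, one_pow]
    refine Or.inr ⟨h, h.natDegree, hirr, rfl, fun k c hk _ => ⟨c, ?_⟩, ?_⟩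
    · rw [← hφ, ← map_pow, hk, AlgHom.commutes]
    · rcases Nat.even_or_odd n with hev | hon
      · right
        have h2 : Nat.Coprime h.natDegree 2 := Nat.coprime_two_right.2 hodd.1
        have hD2 : h.natDegree ∣ n / 2 := by
          refine h2.dvd_of_dvd_mul_left ?_
          rwa [Nat.mul_div_cancel' hev.two_dvd]
        refine ⟨hev, hD2, hζ0, ?_⟩
        have hnn := norm_frob hF hodd.1 hodd.2
        set δ := Algebra.norm F ζ ^ (n / 2 / h.natDegree) with hδ
        have hδ2 : δ * δ = 1 := by
          rw [hδ, ← pow_add, ← two_mul, ← Nat.mul_div_assoc _ hD2, Nat.mul_div_cancel' hev.two_dvd]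
          exact hdets.symm
        have hδ1 : δ ^ q * δ = 1 := by
          rw [← pow_succ, hδ, ← pow_mul, mul_comm, pow_mul, hnn, one_pow]
        exact mul_right_cancel₀ (fun h0 => by rw [h0, mul_zero] at hδ2; exact zero_ne_one hδ2)
          (hδ1.trans hδ2.symm)
      · exact Or.inl ⟨hon, hdiv, hodd.2, hdets.symm⟩
  · have hhne : h ≠ 0 := minpoly.ne_zero hint
    have hhu : ¬ IsUnit h := minpoly.not_isUnit F s
    obtain ⟨f, hf, k, hfk⟩ := WfDvdMonoid.exists_irreducible_factor hhu hhne
    have hku : ¬ IsUnit k := fun hu => hirr (hfk ▸ (irreducible_mul_isUnit hu).2 hf)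
    have hcop' : IsCoprime f k := (hf.coprime_iff_not_dvd).2 fun hd => by
      obtain ⟨c, hc⟩ := hd
      exact hf.not_isUnit (hsep f ⟨c, by rw [hfk, hc, mul_assoc]⟩)
    obtain ⟨b, c, hbc⟩ := hcop'
    set P := aeval s (c * k) with hP_def
    set R := adj σ P with hR_def
    have hck : (c * k) * (c * k) - c * k = -(b * c) * h := by
      have : c * k = 1 - b * f := eq_sub_of_add_eq' hbc
      calc (c * k) * (c * k) - c * k = (c * k) * ((1 - b * f) - 1) := by rw [← this]; ring
        _ = _ := by rw [hfk]; ring
    have hPP : P * P = P := by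
      refine sub_eq_zero.1 ?_
      rw [hP_def, ← map_mul, ← map_sub, hck, map_mul, hh0, mul_zero]
    have hRR : R * R = R := by rw [hR_def, ← adj_mul, hPP]
    have hgP : ∀ q : F[X], Commute g (aeval s q) := fun q => by
      induction q using Polynomial.induction_on' with
      | add x y hx hy => rw [map_add]; exact hx.add_right hy
      | monomial i r =>
        rw [aeval_monomial]
        exact Commute.mul_right (Algebra.commutes r g).symm (hgs.pow_right i)
    have hRq : R = aeval s (((c * k).map σ).comp (X ^ (e - 1))) := by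
      rw [hR_def, hP_def, adj_aeval, ← hs'_def, hs'e, aeval_comp, aeval_X_pow]
    have hPR : Commute P R := by
      rw [hP_def, hRq]; exact (Commute.all (c * k) _).map (aeval s)
    have hgR : Commute g R := by rw [hRq]; exact hgP _
    have hf0 : aeval s f ≠ 0 := by
      intro h0
      have hdvd := minpoly.dvd F s h0
      rw [← hh_def, hfk] at hdvd
      exact hku (isUnit_of_dvd_one ((mul_dvd_mul_iff_left hf.ne_zero).1 (by rwa [mul_one])))
    have hk0 : aeval s k ≠ 0 := by
      intro h0
      have hdvd := minpoly.dvd F s h0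
      rw [← hh_def, hfk] at hdvd
      have hk0 : k ≠ 0 := fun e => hhne (by rw [hfk, e, mul_zero])
      exact hf.not_isUnit (isUnit_of_dvd_one ((mul_dvd_mul_iff_right hk0).1 (by rwa [one_mul])))
    have hfP : aeval s f * P = 0 := by
      rw [hP_def, ← map_mul, show f * (c * k) = c * h by rw [hfk]; ring, map_mul, hh0, mul_zero]
    have hP1 : P ≠ 1 := fun h1 => hf0 (by rw [← hfP, h1, mul_one])
    have hP0 : P ≠ 0 := by
      intro h0
      refine hk0 ?_
      have : aeval s k * P = aeval s k := by
        refine sub_eq_zero.1 ?_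
        rw [hP_def, ← map_mul, ← map_sub, show k * (c * k) - k = -b * h by
          rw [hfk]; linear_combination k * hbc, map_mul, hh0, mul_zero]
      rw [← this, h0, mul_zero]
    have hRP : adj σ R = P := adj_adj hσ2 P
    by_cases hE : P * R = 0
    · have hRP0 : R * P = 0 := by rw [← hPR.eq, hE]
      by_cases hY : P + R = 1
      · right
        have hPid : Φ P * Φ P = Φ P := by rw [← map_mul, hPP]
        have hsc : Commute (Φ s) (Φ P) := by
          rw [hP_def]
          refine Commute.map ?_ Φ
          conv_lhs => rw [← aeval_X (R := F) s]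
          exact (Commute.all X (c * k)).map (aeval s)
        have hsP : ∀ w ∈ LinearMap.range (Φ P), Φ s w ∈ LinearMap.range (Φ P) := by
          rintro w ⟨x, rfl⟩
          exact ⟨Φ s x, by rw [← Module.End.mul_apply, ← hsc.eq]; rfl⟩
        have hfW : aeval ((Φ s).restrict hsP) f = 0 := by
          have hev : ∀ (q : F[X]) (w : LinearMap.range (Φ P)),
              ((aeval ((Φ s).restrict hsP) q w : LinearMap.range (Φ P)) : Fin n → F) =
                aeval (Φ s) q (w : Fin n → F) := by
            intro q
            induction q using Polynomial.induction_on' with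
            | add x y hx hy => intro w; simp [hx, hy]
            | monomial i r =>
              intro w
              simp only [aeval_monomial, Module.algebraMap_end_eq_smul_id, Module.End.mul_apply,
                LinearMap.smul_apply, LinearMap.id_coe, id_eq, Submodule.coe_smul]
              congr 1
              induction i generalizing w with
              | zero => rfl
              | succ i ih => rw [pow_succ, pow_succ, Module.End.mul_apply, Module.End.mul_apply, ih]; rfl
          refine LinearMap.ext fun w => Subtype.ext ?_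
          rw [hev, ← (compl_mem hPid).map_id _ w.2, ← Module.End.mul_apply, aeval_algHom_apply,
            ← map_mul, hfP, map_zero]
          rfl
        have hr2 : 2 * Module.finrank F (LinearMap.range (Φ P)) = n := by
          have h1 := (compl_mem hPid).isCompl
          have hk : LinearMap.ker (Φ P) = LinearMap.range (Φ R) := by
            apply le_antisymm
            · intro w hw
              refine ⟨w, ?_⟩
              have h2 := congrArg (fun q => Φ q w) hY
              simp only [map_add, LinearMap.add_apply, LinearMap.mem_ker.1 hw, zero_add, map_one,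
                Module.End.one_apply] at h2
              exact h2
            · rintro w ⟨x, rfl⟩
              rw [LinearMap.mem_ker, ← Module.End.mul_apply, ← map_mul, hE, map_zero]; rfl
          have h3 := Submodule.finrank_add_eq_of_isCompl h1
          rw [hk, hfin] at h3
          have h4 : Module.finrank F (LinearMap.range (Φ R)) = Module.finrank F (LinearMap.range (Φ P)) :=
            rank_adj P hσ2
          omega
        obtain ⟨hdiv, -, -⟩ := SpSpec.field_facts _ hf hfW
        have hdetW := det_of_irreducible _ hf hfW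
        rw [← det_idem hPid hsc hsP, ← map_one Φ, ← map_mul, ← map_sub, ← map_add, hΦdet,
          show (1 : Matrix (Fin n) (Fin n) F) - P = R from sub_eq_iff_eq_add'.2 hY.symm] at hdetW
        haveI : Fact (Irreducible f) := ⟨hf⟩
        have hroot0 : AdjoinRoot.root f ≠ 0 := by
          intro h0
          have hX : f ∣ (X : F[X]) := AdjoinRoot.mk_eq_zero.1 (show AdjoinRoot.mk f (X : F[X]) = 0 by rw [AdjoinRoot.mk_X]; exact h0)
          have hh : aeval s h = 0 := hh0
          have hXP : aeval s (X : F[X]) * P = 0 := by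
            obtain ⟨u, hu⟩ := hX
            rw [hu, mul_comm f u, map_mul, mul_assoc, hfP, mul_zero]
          rw [aeval_X] at hXP
          exact hP0 (by rw [← one_mul P, ← hs, mul_assoc, hXP, mul_zero])
        have hn2 : n / 2 = Module.finrank F (LinearMap.range (Φ P)) := by omega
        refine ⟨f, f.natDegree, hf, rfl, fun i d hd hd1 => ⟨d, ?_⟩, Or.inr ⟨⟨n / 2, by omega⟩,
          hn2 ▸ hdiv, hroot0, ?_⟩⟩
        · have h1 : (X ^ i - C d : F[X]).aeval (AdjoinRoot.root f) = 0 := by simp [hd]
          rw [AdjoinRoot.aeval_eq, AdjoinRoot.mk_eq_zero] at h1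
          obtain ⟨u, hu⟩ := h1
          have hsiP : s ^ i * P = algebraMap F _ d * P := by
            refine sub_eq_zero.1 ?_
            rw [← sub_mul, show s ^ i - algebraMap F _ d = aeval s (X ^ i - C d) by simp, hu,
              mul_comm f u, map_mul, mul_assoc, hfP, mul_zero]
          have h2 := congrArg (adj σ) hsiP
          rw [adj_mul, adj_mul, adj_algebraMap, adj_pow, ← hR_def, ← hs'_def,
            ← (Algebra.commutes (σ d) R)] at h2
          have hdσ : d * σ d = 1 := by rw [hσ, ← pow_succ', hd1]
          have hsR : s ^ i * R = algebraMap F _ d * R := by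
            have hc1 : Commute (s ^ i) R := by
              rw [hRq, ← aeval_X_pow (R := F)]; exact (Commute.all _ _).map (aeval s)
            have hinv : s' ^ i * s ^ i = 1 := by
              rw [← (Commute.mul_pow (hs'e ▸ Commute.pow_self s _) i), hs, one_pow]
            calc s ^ i * R = algebraMap F _ d * (algebraMap F _ (σ d) * (R * s ^ i)) := by
                  rw [← mul_assoc, ← map_mul, hdσ, map_one, one_mul, hc1.eq]
              _ = algebraMap F _ d * (R * s' ^ i * s ^ i) := by rw [← mul_assoc (algebraMap F _ (σ d)), h2]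
              _ = _ := by rw [mul_assoc R, hinv, mul_one]
          rw [← mul_one (s ^ i), ← hY, mul_add, hsiP, hsR, ← mul_add, hY, mul_one]
        · rw [hn2, ← hdetW, ← hσ, ← det_adj, adj_add, adj_mul, hRP, ← hs'_def]
          have hAB : (s * P + R) * (s * R + P) = s := by
            have hcR : Commute s R := by
              rw [hRq]; conv_lhs => rw [← aeval_X (R := F) s]
              exact (Commute.all X _).map (aeval s)
            have hcP : Commute s P := by
              rw [hP_def]; conv_lhs => rw [← aeval_X (R := F) s]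
              exact (Commute.all X _).map (aeval s)
            calc (s * P + R) * (s * R + P)
                = s * (P * s) * R + s * (P * P) + (R * s) * R + R * P := by noncomm_ring
              _ = s * (s * P) * R + s * P + (s * R) * R + R * P := by rw [← hcP.eq, ← hcR.eq, hPP]
              _ = s * (P + R) := by
                rw [mul_assoc s R R, hRR, mul_assoc s (s * P), mul_assoc s P R, hE, hRP0]
                noncomm_ring
              _ = s := by rw [hY, mul_one]
          have hBC : (R * s' + P) * (s * R + P) = 1 := by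
            have hcP : Commute s P := by
              rw [hP_def]; conv_lhs => rw [← aeval_X (R := F) s]
              exact (Commute.all X _).map (aeval s)
            calc (R * s' + P) * (s * R + P)
                = R * (s' * s) * R + R * s' * P + (P * s) * R + P * P := by noncomm_ring
              _ = R * 1 * R + R * s' * P + (s * P) * R + P := by rw [hs, ← hcP.eq, hPP]
              _ = 1 := by
                have hcs' : Commute s' P := by rw [hs'e]; exact hcP.pow_left _
                rw [mul_one, hRR, mul_assoc R, hcs'.eq, ← mul_assoc R, hRP0, zero_mul, add_zero,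
                  mul_assoc s, hE, mul_zero, add_zero, add_comm, hY]
          have d1 := congrArg Matrix.det hAB
          have d2 := congrArg Matrix.det hBC
          rw [Matrix.det_mul, hdet] at d1
          rw [Matrix.det_mul, Matrix.det_one] at d2
          exact mul_right_cancel₀ (right_ne_zero_of_mul_eq_one d2) (d2.trans d1.symm)
      · refine Or.inl ⟨P + R, by rw [adj_add, ← hR_def, hRP, add_comm], ?_, ?_, hY,
          (hgP _).add_right hgR⟩
        · rw [mul_add, add_mul, add_mul, hPP, hRR, hE, hRP0, add_zero, zero_add]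
        · intro h0
          refine hP0 ?_
          have := congrArg (P * ·) h0
          simpa [mul_add, hPP, hE] using this
    · refine Or.inl ⟨P * R, by rw [adj_mul, hRP], ?_, hE, ?_, (hgP _).mul_right hgR⟩
      · calc P * R * (P * R) = P * (R * P) * R := by simp only [mul_assoc]
          _ = P * P * (R * R) := by rw [← hPR.eq]; simp only [mul_assoc]
          _ = _ := by rw [hPP, hRR]
      · intro h1
        refine hP1 ?_
        calc P = P * (P * R) := by rw [h1, mul_one]
          _ = _ := by rw [← mul_assoc, hPP, h1]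

end Cfsg.Agent.Lib.SuSpec
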