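import Cfsg.Agent.Lib.SuSpec.Elements
import Cfsg.Agent.Lib.SpSpec.Absorb

/-!
Spectra of powers of `PSU` absorb an elementary abelian `r`-factor.
-/

set_option autoImplicit false

namespace Cfsg.Agent.Lib.SuSpec

open Cfsg.Agent.Lib.Classical
open scoped Matrix

variable {F : Type*} [Field F] [Fintype F] {n q : ℕ}

theorem exists_norm_one_order (hF : Fintype.card F = q ^ 2) {r : ℕ} (hr : r.Prime) (hrq : r ∣ q + 1) :
    ∃ ω : F, orderOf ω = r ∧ ω ^ (q + 1) = 1 := by
  haveI : Fact r.Prime := ⟨hr⟩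
  obtain ⟨w, hw⟩ := exists_prime_orderOf_dvd_card' (G := Fˣ) r (by
    rw [Nat.card_units, Nat.card_eq_fintype_card, hF]
    exact hrq.trans ⟨q - 1, by rw [← Nat.sq_sub_sq, one_pow]⟩)
  refine ⟨(w : F), by rw [orderOf_units]; exact hw, ?_⟩
  rw [← Units.val_pow_eq_pow_val, orderOf_dvd_iff_pow_eq_one.1 (hw ▸ hrq), Units.val_one]

/-- A diagonal scalar pair commuting with an orthogonal idempotent. -/
theorem exists_commuting_order (hF : Fintype.card F = q ^ 2) {r : ℕ} (hr : r.Prime) (hrq : r ∣ q + 1)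
    (hrn : ¬ r ∣ n) (hn : 1 ≤ n) {x : Cfsg.SU n F q} {E : Matrix (Fin n) (Fin n) F}
    (hadj : adj (conjHom hF) E = E) (hid : E * E = E) (h0 : E ≠ 0) (h1 : E ≠ 1)
    (hc : Commute (mat x) E) :
    ∃ z : Cfsg.SU n F q, Commute x z ∧ orderOf (QuotientGroup.mk z : Cfsg.PSU n F q) = r := by
  classical
  haveI : Fact r.Prime := ⟨hr⟩
  obtain ⟨ω, hω, hωq⟩ := exists_norm_one_order hF hr hrq
  have hωr : ω ^ r = 1 := hω ▸ pow_orderOf_eq_one ω
  let Φ := (Matrix.toLinAlgEquiv' (R := F) (n := Fin n))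
  have hidΦ : Φ E * Φ E = Φ E := by rw [← map_mul, hid]
  set k1 := Module.finrank F (LinearMap.range (Φ E))
  set k2 := Module.finrank F (LinearMap.range (1 - Φ E)) with hk2
  have hsum : k1 + k2 = n := by
    have h := Submodule.finrank_add_eq_of_isCompl (compl_mem hidΦ).isCompl
    have hk : LinearMap.ker (Φ E) = LinearMap.range (1 - Φ E) := by
      apply le_antisymm
      · intro w hw
        exact ⟨w, by simp [LinearMap.mem_ker.1 hw]⟩
      · rintro w ⟨y, rfl⟩
        rw [LinearMap.mem_ker, ← Module.End.mul_apply, mul_sub, mul_one, hidΦ, sub_self]; rfl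
    rw [hk, Module.finrank_fintype_fun_eq_card, Fintype.card_fin] at h
    exact h
  set α := ω ^ k2 with hα
  set β := (ω ^ k1)⁻¹ with hβ
  let A := algebraMap F (Matrix (Fin n) (Fin n) F)
  set M := A α * E + A β * (1 - E) with hM
  have hαq : conjHom hF α * α = 1 := by
    rw [conjHom_apply, ← pow_succ, hα, ← pow_mul, mul_comm, pow_mul, hωq, one_pow]
  have hβq : conjHom hF β * β = 1 := by
    rw [conjHom_apply, ← pow_succ, hβ, inv_pow, ← pow_mul, mul_comm, pow_mul, hωq, one_pow, inv_one]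
  have hmul : ∀ a b c d : F, (A a * E + A b * (1 - E)) * (A c * E + A d * (1 - E)) =
      A (a * c) * E + A (b * d) * (1 - E) := by
    intro a b c d
    have e1 : E * (1 - E) = 0 := by rw [mul_sub, mul_one, hid, sub_self]
    have e2 : (1 - E) * E = 0 := by rw [sub_mul, one_mul, hid, sub_self]
    have e3 : (1 - E) * (1 - E) = 1 - E := by rw [mul_sub, mul_one, e2, sub_zero]
    have hco : ∀ (P Q : Matrix (Fin n) (Fin n) F) (a b : F), A a * P * (A b * Q) = A (a * b) * (P * Q) := by
      intro P Q a b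
      rw [mul_assoc, ← mul_assoc P, ← Algebra.commutes b P, map_mul, mul_assoc, mul_assoc]
    rw [add_mul, mul_add, mul_add, hco, hco, hco, hco, hid, e1, e2, e3]
    simp
  have hadjM : adj (conjHom hF) M = A (conjHom hF α) * E + A (conjHom hF β) * (1 - E) := by
    have hsub : adj (conjHom hF) (1 - E) = 1 - E := by
      refine eq_sub_of_add_eq ?_
      nth_rewrite 2 [← hadj]
      rw [← adj_add, sub_add_cancel, adj_one]
    rw [hM, adj_add, adj_mul, adj_mul, adj_algebraMap, adj_algebraMap, hadj, hsub,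
      ← Algebra.commutes, ← Algebra.commutes]
  have hiso : adj (conjHom hF) M * M = 1 := by
    rw [hadjM, hM, hmul, hαq, hβq]; simp [A]
  have hdet : M.det = 1 := by
    rw [← LinearMap.det_toLin' M, show Matrix.toLin' M = Φ M from rfl, hM]
    simp only [map_add, map_mul, map_sub, map_one, A, AlgEquiv.commutes]
    rw [det_scalar_idem hidΦ, ← hk2, hα, hβ, inv_pow, ← pow_mul, ← pow_mul, mul_comm k2]
    exact mul_inv_cancel₀ (pow_ne_zero _ fun h => by
      rw [h, zero_pow hr.ne_zero] at hωr; exact zero_ne_one hωr)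
  let z : Cfsg.SU n F q := ⟨⟨M, hdet⟩, mem_of_adj hF hdet hiso⟩
  have hz : mat z = M := rfl
  refine ⟨z, ?_, orderOf_eq_prime ((mk_pow_eq_one hF hn z r).2 ⟨1, ?_⟩) ?_⟩
  · refine Subtype.ext (Subtype.ext ?_)
    show mat x * M = M * mat x
    rw [hM]
    exact ((((Algebra.commute_algebraMap_left α (mat x)).symm).mul_right hc).add_right
      (((Algebra.commute_algebraMap_left β (mat x)).symm).mul_right
        ((Commute.one_right _).sub_right hc))).eq
  · have hp : ∀ k, M ^ k = A (α ^ k) * E + A (β ^ k) * (1 - E) := by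
      intro k
      induction k with
      | zero => simp [A]
      | succ k ih => rw [pow_succ, ih, hM, hmul, pow_succ, pow_succ]
    rw [hz, hp, hα, hβ, inv_pow, ← pow_mul, ← pow_mul, mul_comm k2, mul_comm k1, pow_mul, pow_mul, hωr,
      one_pow, one_pow, inv_one]
    simp [A]
  · intro h
    rw [← pow_one (QuotientGroup.mk z : Cfsg.PSU n F q), mk_pow_eq_one hF hn] at h
    obtain ⟨c, hc'⟩ := h
    rw [pow_one, hz, hM] at hc'
    have e1 : A α * E = A c * E := by
      have := congrArg (· * E) hc'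
      simpa [add_mul, mul_assoc, hid, sub_mul] using this
    have e2 : A β * (1 - E) = A c * (1 - E) := by
      have := congrArg (· * (1 - E)) hc'
      simpa [add_mul, mul_assoc, hid, sub_mul, mul_sub] using this
    have hinj : ∀ {P : Matrix (Fin n) (Fin n) F}, P ≠ 0 → ∀ a b : F, A a * P = A b * P → a = b := by
      intro P hP a b hab
      by_contra hne
      refine hP ?_
      have h2 : A (a - b) * P = 0 := by rw [map_sub, sub_mul, hab, sub_self]
      have h3 := congrArg (A (a - b)⁻¹ * ·) h2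
      simp only [mul_zero] at h3
      rwa [← mul_assoc, ← map_mul, inv_mul_cancel₀ (sub_ne_zero.2 hne), map_one, one_mul] at h3
    have h3 : α = β := (hinj h0 α c e1).trans (hinj (sub_ne_zero.2 (Ne.symm h1)) β c e2).symm
    refine hrn (hω ▸ orderOf_dvd_of_pow_eq_one ?_)
    rw [← hsum, pow_add, mul_comm, ← hα, h3, hβ, inv_mul_cancel₀]
    exact pow_ne_zero _ fun h => by rw [h, zero_pow hr.ne_zero] at hωr; exact zero_ne_one hωr

/-- A unipotent part together with a scalar of prime order. -/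
theorem exists_mixed {p : ℕ} [Fact p.Prime] [CharP F p] (hF : Fintype.card F = q ^ 2) {r : ℕ}
    (hr : r.Prime) (hrq : r ∣ q + 1) (hrn : ¬ r ∣ n) {j : ℕ} (hj : p ^ j < n - 1) :
    ∃ y : Cfsg.PSU n F q, r * p ^ (j + 1) ∣ orderOf y := by
  classical
  have hp : p.Prime := Fact.out
  obtain ⟨ω, hω, hωq⟩ := exists_norm_one_order hF hr hrq
  have hωr : ω ^ r = 1 := hω ▸ pow_orderOf_eq_one ω
  have hω0 : ω ≠ 0 := fun h => by rw [h, zero_pow hr.ne_zero] at hωr; exact zero_ne_one hωr
  set σ := conjHom hF with hσdef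
  have hσσ : ∀ c, σ (σ c) = c := conjHom_conjHom hF
  obtain ⟨x₀, hx₀⟩ : ∃ c, σ c ≠ c := by
    by_contra h
    push Not at h
    exact conjHom_ne_id hF (RingHom.ext h)
  obtain ⟨a₀, ha₀⟩ : ∃ c, c + σ c ≠ 0 := by
    by_contra h
    push Not at h
    have h2 := h 1
    rw [map_one] at h2
    refine hx₀ ?_
    linear_combination h x₀ - x₀ * h2
  set a := a₀ / (a₀ + σ a₀) with ha
  have hσa : σ a = σ a₀ / (a₀ + σ a₀) := by rw [ha, map_div₀, map_add, hσσ, add_comm (σ a₀) a₀]
  have ha1 : a + σ a = 1 := by rw [hσa, ha, ← add_div, div_self ha₀]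
  set θ := x₀ - σ x₀ with hθ
  have hθ0 : θ ≠ 0 := sub_ne_zero.2 (Ne.symm hx₀)
  have hσθ : σ θ = -θ := by rw [hθ, map_sub, hσσ, neg_sub]
  let BU : (Fin (n - 1) → F) →ₛₗ[σ] (Fin (n - 1) → F) →ₗ[F] F :=
    LinearMap.mk₂'ₛₗ σ (RingHom.id F) (fun u v => ∑ i, σ (u i) * v i.rev)
      (fun u u' v => by simp only [Pi.add_apply, map_add, add_mul, Finset.sum_add_distrib])
      (fun c u v => by
        simp only [Pi.smul_apply, smul_eq_mul, map_mul, Finset.mul_sum, mul_assoc])
      (fun u v v' => by simp only [Pi.add_apply, mul_add, Finset.sum_add_distrib])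
      (fun c u v => by
        simp only [Pi.smul_apply, smul_eq_mul, RingHom.id_apply, Finset.mul_sum, mul_left_comm])
  have hBU : ∀ u v, BU u v = ∑ i, σ (u i) * v i.rev := fun _ _ => rfl
  let S : Module.End F (Fin (n - 1) → F) :=
    { toFun := fun v i => if h : (i : ℕ) + 1 < n - 1 then v ⟨i + 1, h⟩ else 0
      map_add' := fun u v => by funext i; simp only [Pi.add_apply]; split <;> simp
      map_smul' := fun c v => by funext i; simp only [Pi.smul_apply, RingHom.id_apply]; split <;> simp }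
  have hSpow : ∀ (k : ℕ) (v : (Fin (n - 1) → F)) (i : Fin (n - 1)),
      (S ^ k) v i = if h : (i : ℕ) + k < n - 1 then v ⟨i + k, h⟩ else 0 := by
    intro k
    induction k with
    | zero => intro v i; simp
    | succ k ih =>
      intro v i
      rw [pow_succ, Module.End.mul_apply, ih]
      by_cases h : (i : ℕ) + k < n - 1
      · rw [dif_pos h]
        show (if h' : (i : ℕ) + k + 1 < n - 1 then _ else _) = _
        split_ifs with h1 h2 <;> first | rfl | (exfalso; omega) | skip
      · rw [dif_neg h, dif_neg (by omega)]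
  have hself : ∀ u v, BU (S u) v = BU u (S v) := by
    intro u v
    obtain ⟨L, hL⟩ : ∃ L, n - 1 = L + 1 := ⟨n - 2, by omega⟩
    let f1 : ℕ → F := fun i =>
      if h : i + 1 < n - 1 then σ (u ⟨i + 1, h⟩) * v (⟨i, by omega⟩ : Fin (n - 1)).rev else 0
    let f2 : ℕ → F := fun i =>
      if h : 0 < i ∧ i < n - 1 then σ (u ⟨i, h.2⟩) * v (⟨i - 1, by omega⟩ : Fin (n - 1)).rev else 0
    have e1 : BU (S u) v = ∑ i ∈ Finset.range (n - 1), f1 i := by
      rw [hBU, ← Fin.sum_univ_eq_sum_range]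
      refine Finset.sum_congr rfl fun i _ => ?_
      simp only [f1, S, LinearMap.coe_mk, AddHom.coe_mk]
      split <;> simp
    have e2 : BU u (S v) = ∑ i ∈ Finset.range (n - 1), f2 i := by
      rw [hBU, ← Fin.sum_univ_eq_sum_range]
      refine Finset.sum_congr rfl fun i _ => ?_
      simp only [f2, S, LinearMap.coe_mk, AddHom.coe_mk]
      have hv : (i.rev : ℕ) = n - 1 - (i + 1) := Fin.val_rev i
      by_cases h0 : 0 < (i : ℕ)
      · rw [dif_pos (by omega : ((i.rev : Fin (n - 1)) : ℕ) + 1 < n - 1), dif_pos ⟨h0, i.isLt⟩]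
        have : (⟨(i.rev : ℕ) + 1, by omega⟩ : Fin (n - 1)) =
            (⟨i - 1, by omega⟩ : Fin (n - 1)).rev := Fin.ext (by simp only [Fin.val_rev]; omega)
        rw [this]
      · rw [dif_neg (by omega : ¬ ((i.rev : Fin (n - 1)) : ℕ) + 1 < n - 1), dif_neg (by omega)]
        ring
    rw [e1, e2, hL, Finset.sum_range_succ f1, Finset.sum_range_succ' f2]
    have a1 : f1 L = 0 := dif_neg (by omega)
    have a2 : f2 0 = 0 := dif_neg (by omega)
    rw [a1, a2, add_zero, add_zero]
    refine Finset.sum_congr rfl fun i hi => ?_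
    have := Finset.mem_range.1 hi
    simp only [f1, f2, dif_pos (by omega : i + 1 < n - 1),
      dif_pos (⟨by omega, by omega⟩ : 0 < i + 1 ∧ i + 1 < n - 1), Nat.add_sub_cancel]
  have hnilS : S ^ (n - 1) = 0 := LinearMap.ext fun v => funext fun i => by
    rw [hSpow, dif_neg (by omega)]; rfl
  haveI : Nonempty (Fin (n - 1)) := ⟨⟨0, by omega⟩⟩
  haveI : Nontrivial (Fin (n - 1) → F) := inferInstance
  haveI : CharP (Module.End F (Fin (n - 1) → F)) p :=
    charP_of_injective_algebraMap (algebraMap F (Module.End F (Fin (n - 1) → F))).injective p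
  set T : Module.End F (Fin (n - 1) → F) := θ • S with hT
  have hTskew : ∀ u v, BU (T u) v + BU u (T v) = 0 := fun u v => by
    rw [hT, LinearMap.smul_apply, LinearMap.smul_apply, map_smulₛₗ, LinearMap.smul_apply, map_smul,
      hσθ, hself, smul_eq_mul, smul_eq_mul]
    ring
  have hnilT : IsNilpotent T := ⟨n - 1, by rw [hT, smul_pow, hnilS, smul_zero]⟩
  obtain ⟨U, hU⟩ : IsUnit (1 - σ a • T) := IsNilpotent.isUnit_one_sub (hnilT.smul (σ a))
  set u : Module.End F (Fin (n - 1) → F) := (1 + a • T) * ((U⁻¹ : (Module.End F (Fin (n - 1) → F))ˣ) : Module.End F (Fin (n - 1) → F)) with hu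
  have huU : u * (1 - σ a • T) = 1 + a • T := by rw [hu, ← hU, Units.inv_mul_cancel_right]
  have hcomm : Commute (1 + a • T) (1 - σ a • T) :=
    (Commute.one_left _).add_left ((Commute.one_right _).sub_right
      (((Commute.refl T).smul_left a).smul_right (σ a)))
  have hucomm : Commute u (1 - σ a • T) := by
    rw [hu]
    exact hcomm.mul_left (by rw [← hU]; exact Commute.units_val (Commute.inv_left (Commute.refl U)))
  have hpowP : ∀ k, u ^ p ^ k * (1 - (σ a) ^ p ^ k • T ^ p ^ k) = 1 + a ^ p ^ k • T ^ p ^ k := by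
    intro k
    rw [← smul_pow, ← smul_pow]
    have h1 : (u * (1 - σ a • T)) ^ p ^ k = (1 + a • T) ^ p ^ k := by rw [huU]
    rwa [hucomm.mul_pow, sub_pow_char_pow_of_commute _ _ (Commute.one_left _),
      add_pow_char_pow_of_commute _ _ (Commute.one_left _), one_pow] at h1
  obtain ⟨i, hi, hordu⟩ : ∃ i, j + 1 ≤ i ∧ orderOf u = p ^ i := by
    have hbig : u ^ p ^ (n - 1) = 1 := by
      have h := hpowP (n - 1)
      have h0 : T ^ p ^ (n - 1) = 0 := by
        rw [hT, smul_pow, pow_eq_zero_of_le (Nat.lt_pow_self hp.one_lt).le hnilS, smul_zero]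
      simpa [h0] using h
    obtain ⟨i, -, hi⟩ := (Nat.dvd_prime_pow hp).1 (orderOf_dvd_of_pow_eq_one hbig)
    refine ⟨i, ?_, hi⟩
    by_contra hle
    have h1 : u ^ p ^ j = 1 := orderOf_dvd_iff_pow_eq_one.1 (hi ▸ pow_dvd_pow p (by omega))
    have h := hpowP j
    rw [h1, one_mul] at h
    have h4 := congrArg (fun e : Module.End F (Fin (n - 1) → F) => e (Pi.single ⟨p ^ j, hj⟩ 1) ⟨0, by omega⟩) h
    simp only [LinearMap.sub_apply, LinearMap.add_apply, Pi.sub_apply, Pi.add_apply,
      Module.End.one_apply, LinearMap.smul_apply, Pi.smul_apply, hT, smul_pow, hSpow, zero_add,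
      dif_pos hj, smul_eq_mul, Pi.single_eq_same, mul_one] at h4
    have hne : (⟨0, by omega⟩ : Fin (n - 1)) ≠ ⟨p ^ j, hj⟩ := by
      intro h; have := congrArg Fin.val h; have := pow_pos hp.pos j; simp only at *; omega
    rw [Pi.single_eq_of_ne hne] at h4
    have h5 : (a + σ a) ^ p ^ j = 0 := by
      haveI : ExpChar F p := ExpChar.prime hp
      rw [add_pow_char_pow]
      refine mul_left_cancel₀ (pow_ne_zero (p ^ j) hθ0) ?_
      linear_combination -h4
    rw [ha1, one_pow] at h5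
    exact one_ne_zero h5
  have hiU : ∀ v w, BU (u v) (u w) = BU v w := by
    intro v w
    obtain ⟨v', rfl⟩ : ∃ v', (1 - σ a • T) v' = v := ⟨((U⁻¹ : (Module.End F (Fin (n - 1) → F))ˣ) : Module.End F (Fin (n - 1) → F)) v, by
      rw [← hU, ← Module.End.mul_apply, Units.mul_inv]; rfl⟩
    obtain ⟨w', rfl⟩ : ∃ w', (1 - σ a • T) w' = w := ⟨((U⁻¹ : (Module.End F (Fin (n - 1) → F))ˣ) : Module.End F (Fin (n - 1) → F)) w, by
      rw [← hU, ← Module.End.mul_apply, Units.mul_inv]; rfl⟩
    rw [← Module.End.mul_apply, ← Module.End.mul_apply, huU]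
    simp only [LinearMap.add_apply, LinearMap.sub_apply, Module.End.one_apply, LinearMap.smul_apply,
      map_add, map_sub, map_smulₛₗ, map_smul, smul_eq_mul, hσσ, RingHom.id_apply]
    linear_combination (a + σ a) * hTskew v' w'
  let B : (F × (Fin (n - 1) → F)) →ₛₗ[σ] (F × (Fin (n - 1) → F)) →ₗ[F] F :=
    LinearMap.mk₂'ₛₗ σ (RingHom.id F) (fun x y => σ x.1 * y.1 + BU x.2 y.2)
      (fun x x' y => by simp only [Prod.fst_add, Prod.snd_add, map_add, LinearMap.add_apply]; ring)
      (fun c x y => by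
        simp only [Prod.smul_fst, Prod.smul_snd, map_smulₛₗ, LinearMap.smul_apply, smul_eq_mul, map_mul]
        ring)
      (fun x y y' => by simp only [Prod.fst_add, Prod.snd_add, map_add]; ring)
      (fun c x y => by
        simp only [Prod.smul_fst, Prod.smul_snd, map_smul, smul_eq_mul, RingHom.id_apply]
        ring)
  have hB : ∀ x y, B x y = σ x.1 * y.1 + BU x.2 y.2 := fun _ _ => rfl
  have hS : B.IsSymm := ⟨fun x y => by
    rw [hB, hB, map_add, map_mul, hσσ, hBU, hBU, map_sum]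
    congr 1
    · ring
    · rw [← Equiv.sum_comp Fin.revPerm]
      refine Finset.sum_congr rfl fun i _ => ?_
      rw [map_mul, hσσ, Fin.revPerm_apply, Fin.rev_rev, mul_comm]⟩
  have hright : ∀ y, (∀ x, B x y = 0) → y = 0 := by
    intro y hy
    refine Prod.ext ?_ (funext fun i => ?_)
    · have h := hy (1, 0)
      simpa [hB] using h
    · have h := hy (0, Pi.single i.rev 1)
      rw [hB, hBU, Finset.sum_eq_single i.rev] at h
      · simpa using h
      · intro k _ hk; simp [hk]
      · simp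
  have hBn : B.Nondegenerate := ⟨fun x hx => hright x fun y => by
    rw [← hS.eq x y, hx, map_zero], hright⟩
  obtain ⟨N, hN⟩ : ∃ N, N = n - 1 := ⟨_, rfl⟩
  let g : Module.End F (F × (Fin (n - 1) → F)) := LinearMap.prodMap (ω ^ N • 1) (ω⁻¹ • u)
  have hg : ∀ x y, B (g x) (g y) = B x y := fun x y => by
    rw [hB, hB]
    show σ (ω ^ N * x.1) * (ω ^ N * y.1) + BU (ω⁻¹ • u x.2) (ω⁻¹ • u y.2) = _
    rw [map_smul (BU (ω⁻¹ • u x.2)), map_smulₛₗ, LinearMap.smul_apply, hiU, map_mul, map_pow, smul_eq_mul, smul_eq_mul]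
    have h1 : σ ω * ω = 1 := by rw [hσdef, conjHom_apply, ← pow_succ, hωq]
    have h2 : σ ω⁻¹ * ω⁻¹ = 1 := by rw [map_inv₀, ← mul_inv, h1, inv_one]
    have h3 : σ ω ^ N * ω ^ N = 1 := by rw [← mul_pow, h1, one_pow]
    linear_combination σ x.1 * y.1 * h3 + BU x.2 y.2 * h2
  have hdetu : LinearMap.det u = 1 := by
    have h : LinearMap.det u ^ p ^ i = 1 := by rw [← map_pow, ← hordu, pow_orderOf_eq_one, map_one]
    haveI : ExpChar F p := ExpChar.prime hp
    exact (ExpChar.pow_prime_pow_mul_eq_one_iff p i 1 _).1 (by simpa using h) |> (by simpa using ·)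
  have hdet : LinearMap.det g = 1 := by
    rw [LinearMap.det_prodMap, LinearMap.det_smul, LinearMap.det_smul, hdetu,
      Module.finrank_self, Module.finrank_fintype_fun_eq_card, Fintype.card_fin, pow_one,
      inv_pow, ← hN, show LinearMap.det (1 : Module.End F F) = 1 from LinearMap.det_id]
    rw [mul_one, mul_one, mul_inv_cancel₀ (pow_ne_zero _ hω0)]
  obtain ⟨x, hx⟩ := realize hF B hS hBn (n := n)
    (by rw [Module.finrank_prod, Module.finrank_self, Module.finrank_fintype_fun_eq_card, Fintype.card_fin]; omega)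
    hg hdet
  refine ⟨QuotientGroup.mk x, ?_⟩
  set k := orderOf (QuotientGroup.mk x : Cfsg.PSU n F q)
  obtain ⟨c, hc⟩ := (mk_pow_eq_one hF (by omega) x k).1 (pow_orderOf_eq_one _)
  have hgk : ∀ k, g ^ k = LinearMap.prodMap ((ω ^ N) ^ k • 1) (ω⁻¹ ^ k • u ^ k) := by
    intro k
    induction k with
    | zero => exact LinearMap.ext fun x => by simp
    | succ k ih =>
      rw [pow_succ, ih, pow_succ (ω ^ N), pow_succ ω⁻¹, pow_succ u]
      exact LinearMap.ext fun x => Prod.ext
        (by simp [g, mul_assoc]) (by simp [g, smul_smul, mul_comm])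
  have h1 := (hx k c).1 hc
  rw [hgk] at h1
  have hc1 : (ω ^ N) ^ k = c := by
    have := congrArg (fun e : Module.End F (F × (Fin (n - 1) → F)) => (e (1, 0)).1) h1
    simpa [Module.algebraMap_end_apply] using this
  have hc2 : ω⁻¹ ^ k • u ^ k = algebraMap F _ c := LinearMap.ext fun w => by
    have := congrArg (fun e : Module.End F (F × (Fin (n - 1) → F)) => (e (0, w)).2) h1
    simpa [Module.algebraMap_end_apply] using this
  -- the unipotent part is trivial
  have huk : u ^ k = algebraMap F _ (ω ^ k * c) := by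
    rw [map_mul, ← hc2, ← Algebra.smul_def, smul_smul, ← mul_pow, mul_inv_cancel₀ hω0, one_pow, one_smul]
  have hone : ω ^ k * c = 1 := by
    have h := congrArg (· ^ p ^ i) huk
    simp only [← map_pow, ← pow_mul] at h
    rw [mul_comm k, pow_mul, ← hordu, pow_orderOf_eq_one, one_pow, hordu] at h
    have h2 : (ω ^ k * c) ^ p ^ i = 1 := by
      apply (algebraMap F (Module.End F (Fin (n - 1) → F))).injective
      rw [map_one]; exact h.symm
    haveI : ExpChar F p := ExpChar.prime hp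
    exact (ExpChar.pow_prime_pow_mul_eq_one_iff p i 1 _).1 (by simpa using h2) |> (by simpa using ·)
  rw [hone, map_one] at huk
  have hdu : p ^ (j + 1) ∣ k := (pow_dvd_pow p hi).trans (hordu ▸ orderOf_dvd_of_pow_eq_one huk)
  have hdr : r ∣ k := by
    have h : ω ^ (n * k) = 1 := by
      rw [show n * k = k + N * k by
        rw [hN, Nat.sub_mul, one_mul, Nat.add_sub_cancel' (Nat.le_mul_of_pos_left k (by omega))],
        pow_add, pow_mul ω N, hc1, hone]
    have hd := hω ▸ orderOf_dvd_of_pow_eq_one h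
    exact (hr.dvd_mul.1 hd).resolve_left hrn
  refine Nat.Coprime.mul_dvd_of_dvd_of_dvd (Nat.Coprime.pow_right _ ?_) hdr hdu
  rw [Nat.coprime_primes hr hp]
  rintro rfl
  obtain ⟨p', s, hp', hc', hqs⟩ := exists_q_pow hF
  have : p' = r := CharP.eq F hc' ‹CharP F r›
  subst this
  have hs : s ≠ 0 := fun h => by
    have := two_le_q hF; rw [hqs, h] at this; simp at this
  exact hr.not_dvd_one ((Nat.dvd_add_right (hqs ▸ dvd_pow_self _ hs)).1 hrq)

/-- The trichotomy for orders in `PSU`. -/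
theorem dichotomy {p : ℕ} [Fact p.Prime] [CharP F p] (hF : Fintype.card F = q ^ 2) (hn : 2 ≤ n)
    {r : ℕ} (hr : r.Prime) (hrq : r ∣ q + 1) (hrn : ¬ r ∣ n) :
    ∃ t : Cfsg.PSU n F q, ∀ y : Cfsg.PSU n F q,
      (∃ z : Cfsg.PSU n F q, Nat.lcm r (orderOf y) ∣ orderOf z) ∨
      ∃ e j, orderOf y = p ^ j * e ∧ e ∣ orderOf t ∧ ¬ p ∣ e ∧ (j = 0 ∨ p ^ (j - 1) < n) := by
  classical
  have hp : p.Prime := Fact.out
  obtain ⟨t, ht⟩ := exists_torus_psu (n := n) hF hn
  refine ⟨t, fun y => ?_⟩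
  by_cases hra : r ∣ orderOf y
  · exact Or.inl ⟨y, Nat.lcm_dvd hra dvd_rfl⟩
  obtain ⟨x, rfl⟩ := QuotientGroup.mk_surjective y
  haveI : Nonempty (Fin n) := ⟨⟨0, by omega⟩⟩
  have hadj := mat_adj hF x
  have hpos : 0 < orderOf (mat x) := (orderOf_pos_of_pow hadj).orderOf_pos
  obtain ⟨j, e, hpe, ha⟩ := Nat.exists_eq_pow_mul_and_not_dvd hpos.ne' p hp.ne_one
  have he : 0 < e := Nat.pos_of_ne_zero fun h => hpe (h ▸ dvd_zero p)
  set s := mat (x ^ p ^ j) with hs
  have hss : s = mat x ^ p ^ j := mat_pow x _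
  have hse : orderOf s = e := by
    rw [hss, orderOf_pow' _ (pow_ne_zero _ hp.ne_zero), ha,
      Nat.gcd_eq_right (Dvd.intro e rfl), Nat.mul_div_cancel_left _ (pow_pos hp.pos _)]
  rcases classify (p := p) hF (conjHom_apply hF) (by omega) (mat_adj hF (x ^ p ^ j))
      (x ^ p ^ j).1.2 (by rw [← hs, hse]; exact hpe) (mat x)
      (by rw [← hs, hss]; exact Commute.self_pow _ _) hadj with
    ⟨E, hE1, hE2, hE3, hE4, hE5⟩ | ⟨f, D, hf, hD, hsc, hcond⟩
  · left
    obtain ⟨z, hz, hzo⟩ := exists_commuting_order hF hr hrq hrn (by omega) hE1 hE2 hE3 hE4 hE5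
    refine ⟨QuotientGroup.mk x * QuotientGroup.mk z, ?_⟩
    have hcm : Commute (QuotientGroup.mk x : Cfsg.PSU n F q) (QuotientGroup.mk z) :=
      hz.map (QuotientGroup.mk' (Subgroup.center (Cfsg.SU n F q)))
    have hco : (orderOf (QuotientGroup.mk x : Cfsg.PSU n F q)).Coprime r :=
      ((hr.coprime_iff_not_dvd).2 hra).symm
    rw [hcm.orderOf_mul_eq_mul_orderOf_of_coprime (by rw [hzo]; exact hco), hzo, Nat.lcm_comm,
      hco.lcm_eq_mul]
  · right
    set ybar := (QuotientGroup.mk x : Cfsg.PSU n F q)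
    set m := orderOf (ybar ^ p ^ j) with hm
    have hmt : m ∣ orderOf t := ht f D m hf hD (fun k c h1 h2 => by
      obtain ⟨d, hd⟩ := hsc k c h1 h2
      refine orderOf_dvd_of_pow_eq_one ?_
      rw [show ybar ^ p ^ j = QuotientGroup.mk (x ^ p ^ j) from (QuotientGroup.mk_pow _ _ _).symm]
      exact (mk_pow_eq_one hF (by omega) _ k).2 ⟨d, hd⟩) hcond
    have hdiv : orderOf ybar ∣ p ^ j * m :=
      orderOf_dvd_of_pow_eq_one (by rw [pow_mul, hm, pow_orderOf_eq_one])
    obtain ⟨u, v, hu, hv, huv⟩ := exists_dvd_and_dvd_of_dvd_mul hdiv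
    obtain ⟨i, hij, rfl⟩ := (Nat.dvd_prime_pow hp).1 hu
    have hme : m ∣ e := by
      refine orderOf_dvd_of_pow_eq_one ?_
      rw [show ybar ^ p ^ j = QuotientGroup.mk (x ^ p ^ j) from (QuotientGroup.mk_pow _ _ _).symm]
      exact (mk_pow_eq_one hF (by omega) _ e).2 ⟨1, by rw [← hs, ← hse, pow_orderOf_eq_one, map_one]⟩
    refine ⟨v, i, huv, hv.trans hmt, fun h => hpe ((h.trans hv).trans hme), ?_⟩
    rcases Nat.eq_zero_or_pos i with hi | hi
    · exact Or.inl hi
    · refine Or.inr (lt_of_le_of_lt (Nat.pow_le_pow_right hp.pos (by omega))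
        (unip_bound (p := p) (g := mat x) (by omega) he (by omega : j ≠ 0) ha))

end Cfsg.Agent.Lib.SuSpec
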