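import Cfsg.Agent.Lib.SpSpec.Field

/-!
Determinants of endomorphisms with irreducible minimal polynomial or a commuting idempotent.
-/

set_option autoImplicit false

namespace Cfsg.Agent.Lib.SuSpec

open Polynomial

variable {F : Type*} [Field F] {W : Type*} [AddCommGroup W] [Module F W] [Module.Finite F W]

/-- The determinant of an endomorphism killed by an irreducible polynomial. -/
theorem det_of_irreducible (t : Module.End F W) {f : F[X]} (hf : Irreducible f)
    (ht : aeval t f = 0) :
    LinearMap.det t = Algebra.norm F (AdjoinRoot.root f) ^ (Module.finrank F W / f.natDegree) := by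
  haveI : Fact (Irreducible f) := ⟨hf⟩
  let φ : AdjoinRoot f →ₐ[F] Module.End F W :=
    Ideal.Quotient.liftₐ (Ideal.span {f}) (aeval t) (fun a ha => by
      obtain ⟨b, rfl⟩ := Ideal.mem_span_singleton'.1 ha
      rw [map_mul, ht, mul_zero])
  letI : Module (AdjoinRoot f) W := Module.compHom W φ.toRingHom
  have hsmul : ∀ (a : AdjoinRoot f) (w : W), a • w = φ a w := fun _ _ => rfl
  haveI : IsScalarTower F (AdjoinRoot f) W := ⟨fun c a w => by
    rw [hsmul, hsmul, map_smul]; rfl⟩
  haveI : Module.Finite F (AdjoinRoot f) :=
    Module.Finite.of_basis (AdjoinRoot.powerBasis hf.ne_zero).basis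
  haveI : Module.Finite (AdjoinRoot f) W := Module.Finite.of_restrictScalars_finite F _ W
  have hd : Module.finrank F (AdjoinRoot f) = f.natDegree := by
    rw [(AdjoinRoot.powerBasis hf.ne_zero).finrank, AdjoinRoot.powerBasis_dim]
  have hmul : f.natDegree * Module.finrank (AdjoinRoot f) W = Module.finrank F W := by
    rw [← hd]; exact Module.finrank_mul_finrank F (AdjoinRoot f) W
  have ht' : t = ((AdjoinRoot.root f) • (LinearMap.id : W →ₗ[AdjoinRoot f] W)).restrictScalars F := by
    refine LinearMap.ext fun w => ?_
    show t w = φ (AdjoinRoot.root f) w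
    rw [show φ (AdjoinRoot.root f) = t from aeval_X t]
  rw [ht', LinearMap.det_restrictScalars, LinearMap.det_smul, LinearMap.det_id, mul_one, map_pow,
    ← hmul, Nat.mul_div_cancel_left _ hf.natDegree_pos]

omit [Module.Finite F W] in
theorem compl_mem {E : Module.End F W} (hid : E * E = E) :
    LinearMap.IsProj (LinearMap.range E) E :=
  ⟨fun x => ⟨x, rfl⟩, by rintro _ ⟨y, rfl⟩; rw [← Module.End.mul_apply, hid]⟩

/-- The determinant of an operator extended by the identity outside an idempotent. -/
theorem det_idem {E q : Module.End F W} (hid : E * E = E) (hc : Commute q E)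
    (hq : ∀ w ∈ LinearMap.range E, q w ∈ LinearMap.range E) :
    LinearMap.det (q * E + (1 - E)) = LinearMap.det (q.restrict hq) := by
  let e := (LinearMap.range E).prodEquivOfIsCompl (LinearMap.ker E) (compl_mem hid).isCompl
  have key : q * E + (1 - E) =
      e.toLinearMap ∘ₗ LinearMap.prodMap (q.restrict hq) LinearMap.id ∘ₗ e.symm.toLinearMap := by
    refine LinearMap.ext fun x => ?_
    obtain ⟨⟨a, b⟩, rfl⟩ := e.surjective x
    show (q * E + (1 - E)) (e (a, b)) = e ((LinearMap.prodMap (q.restrict hq) LinearMap.id) (e.symm (e (a, b))))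
    rw [e.symm_apply_apply]
    simp only [e, Submodule.coe_prodEquivOfIsCompl', LinearMap.prodMap_apply, LinearMap.id_apply]
    have ha : E (a : W) = a := (compl_mem hid).map_id _ a.2
    have hb : E (b : W) = 0 := LinearMap.mem_ker.1 b.2
    simp only [LinearMap.add_apply, LinearMap.sub_apply, Module.End.mul_apply, Module.End.one_apply,
      map_add, ha, hb, map_zero, add_zero]
    rw [show ((q.restrict hq) a : W) = q a from rfl]
    abel
  rw [key, LinearMap.det_conj, LinearMap.det_prodMap, LinearMap.det_id, mul_one]

/-- The determinant of a scalar combination of complementary idempotents. -/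
theorem det_scalar_idem {E : Module.End F W} (hid : E * E = E) (α β : F) :
    LinearMap.det (algebraMap F (Module.End F W) α * E + algebraMap F (Module.End F W) β * (1 - E)) =
      α ^ Module.finrank F (LinearMap.range E) *
        β ^ Module.finrank F (LinearMap.range (1 - E)) := by
  have hid' : (1 - E) * (1 - E) = 1 - E := by
    rw [sub_mul, one_mul, mul_sub, mul_one, hid, sub_self, sub_zero]
  have hs : ∀ (c : F) (P : Module.End F W), P * P = P →
      LinearMap.det (algebraMap F (Module.End F W) c * P + (1 - P)) =
        c ^ Module.finrank F (LinearMap.range P) := by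
    intro c P hP
    have hq : ∀ w ∈ LinearMap.range P, algebraMap F (Module.End F W) c w ∈ LinearMap.range P :=
      fun w hw => by rw [Module.algebraMap_end_apply]; exact Submodule.smul_mem _ _ hw
    rw [det_idem hP (Algebra.commute_algebraMap_left c P) hq,
      show (algebraMap F (Module.End F W) c).restrict hq = c • LinearMap.id from
        LinearMap.ext fun w => Subtype.ext rfl,
      LinearMap.det_smul, LinearMap.det_id, mul_one]
  rw [← hs α E hid, ← hs β (1 - E) hid', ← map_mul]
  congr 1
  have e1 : E * (1 - E) = 0 := by rw [mul_sub, mul_one, hid, sub_self]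
  have e2 : (1 - E) * E = 0 := by rw [sub_mul, one_mul, hid, sub_self]
  rw [sub_sub_cancel, add_mul, mul_add, mul_add]
  simp only [← mul_assoc]
  simp only [mul_assoc (algebraMap F (Module.End F W) α) E, ← (Algebra.commutes β E),
    ← Algebra.commutes β (1 - E)]
  rw [hid, ← mul_assoc (algebraMap F (Module.End F W) α)]
  simp only [mul_assoc, hid', e1, e2, mul_zero, zero_add, add_zero]

end Cfsg.Agent.Lib.SuSpec
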